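import Cfsg.Agent.Lib.Invol68.Diag
import Cfsg.Agent.Lib.LBalance.Main

/-!
2-elements over a component of `H / O(H)`, where `H` is the centralizer of an involution of `A`, act on
components of `A / O(A)` as inner automorphisms.
-/

set_option autoImplicit false

namespace CfsgLib.Invol68

open Subgroup CfsgLib.Components CfsgLib.Tech46

variable {G : Type*} [Group G] [Finite G]

/-- By `L`-balance, 2-elements over a component of `H / O(H)` map into the layer of `A / O(A)`. -/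
theorem img_mem_layer {A H : Subgroup G} {i : G} (hi : i ∈ A) (hi2 : i * i = 1)
    (hH : ∀ x, x ∈ H ↔ x ∈ A ∧ x ∈ Cz i) {C : Subgroup (OQ H)} (hC : Cfsg.IsComponent C) {x : G}
    {n : ℕ} (hx : x ∈ H) (hn : x ^ 2 ^ n = 1) (hxC : img H x ∈ C) :
    img A x ∈ Cfsg.layer (OQ A) := by
  haveI : Fact (Nat.Prime 2) := ⟨Nat.prime_two⟩
  set T : Subgroup ↥A := zpowers ⟨i, hi⟩
  have hT : IsPGroup 2 T := isPGroup_zpowers (n := 1) (Subtype.ext (by simpa [pow_two] using hi2))
  have hTmem : ∀ a : ↥A, a ∈ centralizer (T : Set ↥A) ↔ (a : G) ∈ Cz i := by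
    intro a
    rw [mem_centralizer_iff, mem_Cz]
    constructor
    · intro h
      exact (congrArg Subtype.val (h _ (mem_zpowers _))).symm
    · intro h t ht
      obtain ⟨k, rfl⟩ := mem_zpowers_iff.mp ht
      exact ((show Commute a ⟨i, hi⟩ from Subtype.ext h).zpow_right k).symm.eq
  let e : ↥H ≃* ↥(centralizer (T : Set ↥A)) :=
    { toFun := fun a => ⟨⟨a, ((hH a).mp a.2).1⟩, (hTmem _).mpr ((hH a).mp a.2).2⟩
      invFun := fun b => ⟨(b : ↥A), (hH _).mpr ⟨b.1.2, (hTmem _).mp b.2⟩⟩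
      left_inv := fun a => rfl
      right_inv := fun b => rfl
      map_mul' := fun a b => rfl }
  set L := pElemClosure 2 (C.comap (QuotientGroup.mk' (Cfsg.pPrimeCore 2 ↥H)))
  have hL : Cfsg.IsPComponent 2 L := isPComponent_pElemClosure_comap hC
  have hL' : Cfsg.IsPComponent 2 (L.map e.toMonoidHom) := by
    refine CfsgLib.Tech46.BBalance.isPComponent_map e.surjective hL fun hle => ?_
    have h2 := pComponent_dvd_card hL
    rw [← card_map_of_injective (f := e.toMonoidHom) e.injective] at h2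
    exact CfsgLib.PCore.not_dvd_card_pPrimeCore (h2.trans (card_dvd_of_le hle))
  have hxL : (⟨x, hx⟩ : ↥H) ∈ L := by
    refine mem_pElemClosure ?_ (n := n) (Subtype.ext (by simpa using hn))
    rw [mem_comap, QuotientGroup.mk'_apply, ← img_of_mem hx]
    exact hxC
  have h1 : (⟨x, ((hH x).mp hx).1⟩ : ↥A) ∈ Cfsg.pLayer 2 ↥A :=
    CfsgLib.LBalance.map_pLayer_centralizer_le_two hT
      (mem_map_of_mem (centralizer (T : Set ↥A)).subtype
        (pComponent_le_pLayer hL' (mem_map_of_mem e.toMonoidHom hxL)))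
  rw [← map_pLayer (p := 2), img_of_mem ((hH x).mp hx).1]
  exact mem_map_of_mem (QuotientGroup.mk' _) h1

/-- A layer element is inner times centralizing on every component. -/
theorem layer_decomp {X : Type*} [Group X] [Finite X] {P : Subgroup X} (hP : Cfsg.IsComponent P) {v : X}
    (hv : v ∈ Cfsg.layer X) : ∃ r ∈ P, ∃ t, (∀ p ∈ P, Commute p t) ∧ v = r * t := by
  have h : Cfsg.layer X ≤ P ⊔ centralizer (P : Set X) := sSup_le fun L hL => by
    obtain rfl | hne := eq_or_ne L P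
    · exact le_sup_left
    · exact (le_centralizer_of_commutator_eq_bot (commutator_components_eq_bot hL hP hne)).trans
        le_sup_right
  have h1 := h hv
  rw [← SetLike.mem_coe, coe_mul_of_left_le_normalizer_right P _
    ((le_centralizer_iff.mp le_rfl).trans (centralizer_le_normalizer _)), Set.mem_mul] at h1
  obtain ⟨r, hr, t, ht, e⟩ := h1
  exact ⟨r, hr, t, fun p hp => mem_centralizer_iff.mp ht p hp, e.symm⟩

/-- A component is generated by the images of 2-elements. -/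
theorem component_le_of_two {H : Subgroup G} {C : Subgroup (OQ H)} (hC : Cfsg.IsComponent C)
    {U : Subgroup (OQ H)} (hU : ∀ x ∈ H, ∀ n : ℕ, x ^ 2 ^ n = 1 → img H x ∈ C → img H x ∈ U) :
    C ≤ U := by
  haveI : Fact (Nat.Prime 2) := ⟨Nat.prime_two⟩
  rw [← pElemClosure_component (p := 2) hC.2
    (dvd_card_component CfsgLib.PCore.pPrimeCore_quotient_pPrimeCore hC), pElemClosure,
    Subgroup.closure_le]
  rintro q ⟨hq, n, hn⟩
  obtain ⟨x, hx, rfl⟩ := exists_img_eq q
  obtain ⟨k, hk, hkq⟩ := exists_two_lift hn hx rfl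
  rw [SetLike.mem_coe, ← hkq]
  exact hU _ (pow_mem hx k) n hk (hkq.symm ▸ hq)

/-- A 2-element congruent to an element over `D` lies over `D`. -/
theorem push_two {A B : Subgroup G} (hBA : B ≤ A) {D : Subgroup (OQ A)}
    (hsub : (D.subgroupOf (Im A B)).IsSubnormal) {x x0 : G} {n : ℕ} (hx : x ∈ B)
    (hn : x ^ 2 ^ n = 1) (hx0 : x0 ∈ B) (hx0D : img A x0 ∈ D) (h : img B x = img B x0) :
    img A x ∈ D := by
  haveI : Fact (Nat.Prime 2) := ⟨Nat.prime_two⟩
  let φ : ↥B →* OQ A :=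
    (QuotientGroup.mk' (Cfsg.pPrimeCore 2 ↥A)).comp (Subgroup.inclusion hBA)
  have hφ : ∀ b : B, φ b = img A b := fun b => (img_of_mem (hBA b.2)).symm
  let φ' : ↥B →* ↥(Im A B) := φ.codRestrict _ fun b => by rw [hφ]; exact img_mem_Im b.2 (hBA b.2)
  set T0 : Subgroup ↥B := D.comap φ
  have hT0 : T0.IsSubnormal := hsub.comap φ'
  set N := Cfsg.pPrimeCore 2 ↥B
  have hle : pElemClosure 2 (T0 ⊔ N) ≤ T0 :=
    pElemClosure_le_of_coprime hT0 (CfsgLib.PCore.pPrimeCore_coprime.coprime_dvd_left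
      (relIndex_dvd_card_of_le_sup le_sup_left le_rfl))
  have hmem : (⟨x, hx⟩ : ↥B) ∈ T0 ⊔ N := by
    have h0 : (⟨x0, hx0⟩ : ↥B) ∈ T0 := show φ ⟨x0, hx0⟩ ∈ D by rw [hφ]; exact hx0D
    have h1 : (⟨x0, hx0⟩ : ↥B)⁻¹ * ⟨x, hx⟩ ∈ N := by
      rw [← QuotientGroup.eq, ← img_of_mem hx0, ← img_of_mem hx, h]
    have := mul_mem (mem_sup_left h0 : _ ∈ T0 ⊔ N) (mem_sup_right h1)
    rwa [mul_inv_cancel_left] at this
  have h2 : φ ⟨x, hx⟩ ∈ D := hle (mem_pElemClosure hmem (n := n) (Subtype.ext (by simpa using hn)))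
  rwa [hφ] at h2

end CfsgLib.Invol68
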