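import Cfsg.Agent.Lib.Invol68.Intrinsic

/-!
Diagonal components in the centralizer of an involution, and their images in `H / O(H)`.
-/

set_option autoImplicit false

namespace CfsgLib.Invol68

open Subgroup CfsgLib.Components
open scoped commutatorElement

variable {X : Type*} [Group X] [Finite X]

namespace UC

variable {P : Subgroup X} {c s : X}

/-- `x ↦ x * x^s`. -/
def diagHom (hcomm : ∀ p ∈ P, ∀ q ∈ P, Commute p (s⁻¹ * q * s)) : P →* X :=
  MonoidHom.mk' (fun x => (x : X) * (s⁻¹ * x * s)) fun x y => by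
    show (x : X) * y * (s⁻¹ * (x * y) * s) = x * (s⁻¹ * x * s) * (y * (s⁻¹ * y * s))
    calc (x : X) * y * (s⁻¹ * (x * y) * s)
        = x * ((y : X) * (s⁻¹ * x * s)) * (s⁻¹ * y * s) := by group
      _ = x * ((s⁻¹ * x * s) * y) * (s⁻¹ * y * s) := by rw [(hcomm y y.2 x x.2).eq]
      _ = x * (s⁻¹ * x * s) * (y * (s⁻¹ * y * s)) := by group

omit [Finite X] in
theorem mem_diag {hcomm : ∀ p ∈ P, ∀ q ∈ P, Commute p (s⁻¹ * q * s)} {d : X} :
    d ∈ (diagHom hcomm).range ↔ ∃ x ∈ P, d = x * (s⁻¹ * x * s) :=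
  ⟨fun ⟨x, hx⟩ => ⟨x, x.2, hx.symm⟩, fun ⟨x, hx, hd⟩ => ⟨⟨x, hx⟩, hd.symm⟩⟩

omit [Finite X] in
theorem diag_le_centralizer (hs : s * s = 1) (hcomm : ∀ p ∈ P, ∀ q ∈ P, Commute p (s⁻¹ * q * s)) :
    (diagHom hcomm).range ≤ centralizer ({s} : Set X) := by
  intro d hd
  obtain ⟨x, hx, rfl⟩ := mem_diag.mp hd
  rw [mem_centralizer_singleton_iff]
  have hsi : s⁻¹ = s := inv_eq_of_mul_eq_one_right hs
  conv_lhs => rw [(hcomm x hx x hx).eq, hsi]
  rw [hsi]
  simp only [mul_assoc]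

omit [Finite X] in
theorem diag_four (h : UC P c) (hcs : s⁻¹ * c * s = c)
    (hcomm : ∀ p ∈ P, ∀ q ∈ P, Commute p (s⁻¹ * q * s)) {a : X} (ha : Four P c a) :
    a * (s⁻¹ * a * s) * (a * (s⁻¹ * a * s)) = 1 ∧ a * (s⁻¹ * a * s) ≠ 1 := by
  constructor
  · calc a * (s⁻¹ * a * s) * (a * (s⁻¹ * a * s)) = a * ((s⁻¹ * a * s) * a) * (s⁻¹ * a * s) := by group
      _ = a * (a * (s⁻¹ * a * s)) * (s⁻¹ * a * s) := by rw [(hcomm a ha.1 a ha.1).eq]
      _ = a * a * (s⁻¹ * (a * a) * s) := by group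
      _ = 1 := by rw [ha.2, hcs, h.cc]
  · intro e
    have hinv : a = (s⁻¹ * a * s)⁻¹ := eq_inv_of_mul_eq_one_left e
    refine h.four_not_central ha fun p hp => ?_
    have h1 := hcomm p hp a⁻¹ (inv_mem ha.1)
    rw [show s⁻¹ * a⁻¹ * s = (s⁻¹ * a * s)⁻¹ by group, ← hinv] at h1
    exact h1.eq

theorem diag_central (h : UC P c) (hcs : s⁻¹ * c * s = c)
    (hcomm : ∀ p ∈ P, ∀ q ∈ P, Commute p (s⁻¹ * q * s)) {d : X} (hd : d ∈ (diagHom hcomm).range)
    (hc : ∀ e ∈ (diagHom hcomm).range, e * d = d * e) : d = 1 := by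
  obtain ⟨x, hx, rfl⟩ := mem_diag.mp hd
  have hxc : x ∈ centralizer (P : Set X) := by
    refine CfsgLib.Tech46.mem_centralizer_of_component_mod_center h.comp fun p hp => ?_
    have hxp := hc _ (mem_diag.mpr ⟨p, hp, rfl⟩)
    have e1 : (diagHom hcomm) (⟨p, hp⟩ * ⟨x, hx⟩) = (diagHom hcomm) (⟨x, hx⟩ * ⟨p, hp⟩) := by
      rw [map_mul, map_mul]; exact hxp
    have e2 : p * x * (s⁻¹ * (p * x) * s) = x * p * (s⁻¹ * (x * p) * s) := e1
    have e3 : (p * x)⁻¹ * (x * p) = s⁻¹ * (p * x * (x * p)⁻¹) * s := by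
      calc (p * x)⁻¹ * (x * p)
          = (p * x)⁻¹ * (x * p * (s⁻¹ * (x * p) * s)) * (s⁻¹ * (x * p) * s)⁻¹ := by group
        _ = _ := by rw [← e2]; group
    have hcen : ∀ q ∈ P, q * ((p * x)⁻¹ * (x * p)) = (p * x)⁻¹ * (x * p) * q := fun q hq => by
      rw [e3]
      exact (hcomm q hq _ (mul_mem (mul_mem hp hx) (inv_mem (mul_mem hx hp)))).eq
    have hmem : (p * x)⁻¹ * (x * p) ∈ P := mul_mem (inv_mem (mul_mem hp hx)) (mul_mem hx hp)
    have hz := h.cen _ hmem hcen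
    have hk : ∀ z, (z = 1 ∨ z = c) → ∀ q ∈ P, q * z = z * q := by
      rintro z (rfl | rfl) q hq
      · simp
      · exact (h.c_comm hq).eq
    have e4 : ⁅x, p⁆ = (p * x) * ((p * x)⁻¹ * (x * p)) * (p * x)⁻¹ := by
      rw [commutatorElement_def]; group
    have e5 : ⁅x, p⁆ = (p * x)⁻¹ * (x * p) := by
      rw [e4, hcen _ (mul_mem hp hx), mul_inv_cancel_right]
    rw [e5]
    exact mem_inf.mpr ⟨hmem, mem_centralizer_iff.mpr (hk _ hz)⟩
  rcases h.cen x hx (mem_centralizer_iff.mp hxc) with e | e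
  · simp [e]
  · rw [e, hcs, h.cc]

theorem diag_quasisimple (h : UC P c) (hcs : s⁻¹ * c * s = c)
    (hcomm : ∀ p ∈ P, ∀ q ∈ P, Commute p (s⁻¹ * q * s)) :
    Cfsg.IsQuasisimple (diagHom hcomm).range := by
  obtain ⟨a, ha⟩ := h.exists_four
  haveI : Nontrivial (diagHom hcomm).range := by
    rw [Subgroup.nontrivial_iff_ne_bot]
    intro hb
    exact (h.diag_four hcs hcomm ha).2 (mem_bot.mp (hb ▸ mem_diag.mpr ⟨a, ha.1, rfl⟩))
  exact isQuasisimple_of_surjective h.comp.2 (diagHom hcomm).rangeRestrict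
    (diagHom hcomm).rangeRestrict_surjective

theorem diag_subnormal (h : UC P c) (hs : s * s = 1)
    (hcomm : ∀ p ∈ P, ∀ q ∈ P, Commute p (s⁻¹ * q * s)) :
    ((diagHom hcomm).range.subgroupOf (centralizer ({s} : Set X))).IsSubnormal := by
  set D := (diagHom hcomm).range
  set C := centralizer ({s} : Set X)
  have hDl : D ≤ Cfsg.layer X := by
    intro d hd
    obtain ⟨x, hx, rfl⟩ := mem_diag.mp hd
    have hl := component_le_layer h.comp
    refine mul_mem (hl hx) ?_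
    simpa using (inferInstance : (Cfsg.layer X).Normal).conj_mem x (hl hx) s⁻¹
  refine IsSubnormal.step _ ((Cfsg.layer X).subgroupOf C) (comap_mono hDl)
    (inferInstance : ((Cfsg.layer X).subgroupOf C).Normal).isSubnormal ?_
  refine (normal_subgroupOf_iff_le_normalizer (comap_mono hDl)).mpr ?_
  refine le_trans ?_ (le_normalizer_comap C.subtype)
  rintro ⟨e, heC⟩ he
  show e ∈ normalizer (D : Set X)
  have hes : Commute e s := mem_centralizer_singleton_iff.mp heC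
  have key : ∀ e : X, Commute e s → e ∈ normalizer (P : Set X) → ∀ d ∈ D, e * d * e⁻¹ ∈ D := by
    intro e hes heN d hd
    obtain ⟨x, hx, rfl⟩ := mem_diag.mp hd
    refine mem_diag.mpr ⟨e * x * e⁻¹, (mem_normalizer_iff.mp heN x).mp hx, ?_⟩
    calc e * (x * (s⁻¹ * x * s)) * e⁻¹ = e * x * e⁻¹ * ((e * s⁻¹) * x * (s * e⁻¹)) := by group
      _ = e * x * e⁻¹ * ((s⁻¹ * e) * x * (e⁻¹ * s)) := by rw [hes.inv_right.eq, hes.inv_left.eq]
      _ = _ := by group
  have heN : e ∈ normalizer (P : Set X) := layer_le_normalizer_component h.comp he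
  rw [mem_normalizer_iff]
  intro d
  refine ⟨key e hes heN d, fun hd => ?_⟩
  have := key e⁻¹ hes.inv_left (inv_mem heN) _ hd
  simpa [mul_assoc] using this

end UC

/-! ### Images in `H / O(H)` -/

variable {G : Type*} [Group G] [Finite G]

/-- A quasisimple subnormal subgroup of the image of `B ≤ A` gives a component of `B / O(B)`. -/
theorem push {A B : Subgroup G} (hBA : B ≤ A) {D : Subgroup (OQ A)} (hq : Cfsg.IsQuasisimple D)
    (hDB : D ≤ Im A B) (hsub : (D.subgroupOf (Im A B)).IsSubnormal) (h2 : 2 ∣ Nat.card D)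
    (hodd : ∀ δ ∈ D, Odd (orderOf δ) → (∀ p ∈ D, p * δ = δ * p) → δ = 1) :
    ∃ C : Subgroup (OQ B), Cfsg.IsComponent C ∧ (∀ x ∈ B, img A x ∈ D → img B x ∈ C) ∧
      (∀ q ∈ C, ∃ x ∈ B, img A x ∈ D ∧ img B x = q) ∧
      (∀ x ∈ B, img A x ∈ D → img B x = 1 → img A x = 1) ∧
      Nat.card C = Nat.card D := by
  haveI : Fact (Nat.Prime 2) := ⟨Nat.prime_two⟩
  set πA := QuotientGroup.mk' (Cfsg.pPrimeCore 2 ↥A)
  set πB := QuotientGroup.mk' (Cfsg.pPrimeCore 2 ↥B)
  let φ : ↥B →* OQ A := πA.comp (Subgroup.inclusion hBA)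
  have hφ : ∀ x : B, φ x = img A x := fun x => (img_of_mem (hBA x.2)).symm
  set T0 : Subgroup ↥B := D.comap φ
  have hker : ∀ x : B, φ x = 1 → x ∈ Cfsg.pPrimeCore 2 ↥B := fun x hx => by
    rw [hφ, img_eq_one_iff (hBA x.2)] at hx
    obtain ⟨b, hb, hbe⟩ := core_inf_le hBA hx x.2
    rwa [← show b = x from Subtype.ext hbe]
  have hmap : T0.map φ = D := by
    refine le_antisymm (map_comap_le φ D) fun q hq => ?_
    obtain ⟨x, hxB, hxA, rfl⟩ := mem_Im.mp (hDB hq)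
    exact ⟨⟨x, hxB⟩, show φ ⟨x, hxB⟩ ∈ D by rw [hφ]; exact hq, hφ _⟩
  -- the odd core meets the preimage in the kernel
  have hinj : ∀ x ∈ T0, x ∈ Cfsg.pPrimeCore 2 ↥B → φ x = 1 := by
    intro x hxT hxO
    set N : Subgroup (OQ A) := (T0 ⊓ Cfsg.pPrimeCore 2 ↥B).map φ
    have hND : N ≤ D := (map_mono inf_le_left).trans hmap.le
    haveI hNn : (N.subgroupOf D).Normal := by
      refine (normal_subgroupOf_iff_le_normalizer hND).mpr ?_
      conv_lhs => rw [← hmap]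
      refine (map_mono ?_).trans (le_normalizer_map φ)
      exact fun t ht => inf_normalizer_le_normalizer_inf
        ⟨le_normalizer ht, le_normalizer_of_normal (mem_top t)⟩
    have hNodd : Odd (Nat.card N) := by
      refine Odd.of_dvd_nat ?_ ((card_map_dvd _ φ).trans (card_dvd_of_le inf_le_right))
      rw [← Nat.coprime_two_right]
      exact CfsgLib.PCore.pPrimeCore_coprime
    obtain h | h := quasisimple_normal_eq_top_or_le_center hq (N.subgroupOf D)
    · exfalso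
      have hDN : D ≤ N := subgroupOf_eq_top.mp h
      exact Nat.not_even_iff_odd.mpr hNodd (even_iff_two_dvd.mpr (h2.trans (card_dvd_of_le hDN)))
    · have hm : φ x ∈ N := mem_map_of_mem φ ⟨hxT, hxO⟩
      refine hodd _ (hND hm) (hNodd.of_dvd_nat (Subgroup.orderOf_dvd_natCard N hm)) fun p hp => ?_
      exact congrArg Subtype.val
        (mem_center_iff.mp (h (show (⟨_, hND hm⟩ : D) ∈ N.subgroupOf D from hm)) ⟨p, hp⟩)
  set C := T0.map πB
  have hkereq : (φ.subgroupMap T0).ker = (πB.subgroupMap T0).ker := by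
    ext ⟨x, hx⟩
    simp only [MonoidHom.mem_ker, Subtype.ext_iff]
    constructor
    · intro h
      exact (QuotientGroup.eq_one_iff x).mpr (hker x h)
    · intro h
      exact hinj x hx ((QuotientGroup.eq_one_iff x).mp h)
  let e : (T0.map φ : Subgroup (OQ A)) ≃* C :=
    ((QuotientGroup.quotientKerEquivOfSurjective _ (φ.subgroupMap_surjective T0)).symm.trans
      (QuotientGroup.quotientMulEquivOfEq hkereq)).trans
      (QuotientGroup.quotientKerEquivOfSurjective _ (πB.subgroupMap_surjective T0))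
  let e' : ↥D ≃* C := (MulEquiv.subgroupCongr hmap.symm).trans e
  refine ⟨C, ⟨?_, isQuasisimple_of_mulEquiv hq e'⟩, fun x hx hxD => ?_, fun q hq => ?_,
    fun x hx hxD hx1 => ?_, (Nat.card_congr e'.toEquiv).symm⟩
  · let φ' : ↥B →* ↥(Im A B) := φ.codRestrict _ fun x => by
      rw [hφ]; exact img_mem_Im x.2 (hBA x.2)
    exact (hsub.comap φ').map (QuotientGroup.mk'_surjective _)
  · exact ⟨⟨x, hx⟩, show φ ⟨x, hx⟩ ∈ D by rw [hφ]; exact hxD, (img_of_mem hx).symm⟩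
  · obtain ⟨⟨x, hx⟩, hxT, rfl⟩ := hq
    refine ⟨x, hx, ?_, img_of_mem hx⟩
    have h : φ ⟨x, hx⟩ ∈ D := hxT
    rwa [hφ] at h
  · have h := hinj ⟨x, hx⟩ (show φ ⟨x, hx⟩ ∈ D by rw [hφ]; exact hxD)
      ((QuotientGroup.eq_one_iff _).mp ((img_of_mem hx).symm.trans hx1))
    rwa [hφ] at h

end CfsgLib.Invol68
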