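import Cfsg.Agent.Lib.Components.PComponent
import Mathlib.GroupTheory.Perm.Cycle.Type

/-!
Images of elements of a subgroup modulo its odd core, written on elements of the ambient group.
-/

set_option autoImplicit false

namespace CfsgLib.Invol68

open Subgroup

variable {G : Type*} [Group G]

/-- `A / O(A)`. -/
abbrev OQ (A : Subgroup G) := ↥A ⧸ Cfsg.pPrimeCore 2 ↥A

open Classical in
/-- The image of `x` in `A / O(A)` (trivial outside `A`). -/
noncomputable def img (A : Subgroup G) (x : G) : OQ A :=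
  if h : x ∈ A then QuotientGroup.mk ⟨x, h⟩ else 1

/-- `O(A)` as a subgroup of the ambient group. -/
def core (A : Subgroup G) : Subgroup G := (Cfsg.pPrimeCore 2 ↥A).map A.subtype

/-- The image of a subgroup in `A / O(A)`. -/
noncomputable def Im (A K : Subgroup G) : Subgroup (OQ A) :=
  (K.subgroupOf A).map (QuotientGroup.mk' (Cfsg.pPrimeCore 2 ↥A))

variable {A B : Subgroup G} {x y : G}

theorem img_of_mem (h : x ∈ A) : img A x = QuotientGroup.mk ⟨x, h⟩ := by
  classical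
  exact dif_pos h

theorem img_one : img A (1 : G) = 1 := by
  rw [img_of_mem (one_mem A)]
  rfl

theorem img_mul (hx : x ∈ A) (hy : y ∈ A) : img A (x * y) = img A x * img A y := by
  rw [img_of_mem hx, img_of_mem hy, img_of_mem (mul_mem hx hy)]
  rfl

theorem img_inv (hx : x ∈ A) : img A x⁻¹ = (img A x)⁻¹ := by
  rw [img_of_mem hx, img_of_mem (inv_mem hx)]
  rfl

theorem img_pow (hx : x ∈ A) (n : ℕ) : img A (x ^ n) = img A x ^ n := by
  induction n with
  | zero => rw [pow_zero, pow_zero, img_one]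
  | succ n ih => rw [pow_succ, pow_succ, img_mul (pow_mem hx n) hx, ih]

theorem img_conj (hx : x ∈ A) (hy : y ∈ A) :
    img A (y⁻¹ * x * y) = (img A y)⁻¹ * img A x * img A y := by
  rw [img_mul (mul_mem (inv_mem hy) hx) hy, img_mul (inv_mem hy) hx, img_inv hy]

theorem exists_img_eq (q : OQ A) : ∃ x ∈ A, img A x = q := by
  obtain ⟨⟨x, hx⟩, rfl⟩ := QuotientGroup.mk_surjective q
  exact ⟨x, hx, img_of_mem hx⟩

theorem core_le : core A ≤ A := map_subtype_le _

theorem img_eq_one_iff (h : x ∈ A) : img A x = 1 ↔ x ∈ core A := by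
  rw [img_of_mem h, QuotientGroup.eq_one_iff]
  exact ⟨fun hh => ⟨⟨x, h⟩, hh, rfl⟩, fun ⟨⟨_, _⟩, hh, e⟩ => by simp only [subtype_apply] at e; subst e; exact hh⟩

theorem img_eq_one_of_mem_core (h : x ∈ core A) : img A x = 1 := (img_eq_one_iff (core_le h)).mpr h

theorem img_eq_iff (hx : x ∈ A) (hy : y ∈ A) : img A x = img A y ↔ x⁻¹ * y ∈ core A := by
  rw [← img_eq_one_iff (mul_mem (inv_mem hx) hy), img_mul (inv_mem hx) hy, img_inv hx,
    inv_mul_eq_one]

theorem mem_Im {K : Subgroup G} {q : OQ A} : q ∈ Im A K ↔ ∃ x ∈ K, x ∈ A ∧ img A x = q := by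
  constructor
  · rintro ⟨⟨x, hx⟩, hxK, rfl⟩
    exact ⟨x, hxK, hx, img_of_mem hx⟩
  · rintro ⟨x, hxK, hxA, rfl⟩
    exact ⟨⟨x, hxA⟩, hxK, (img_of_mem hxA).symm⟩

theorem img_mem_Im {K : Subgroup G} (hK : x ∈ K) (hA : x ∈ A) : img A x ∈ Im A K :=
  mem_Im.mpr ⟨x, hK, hA, rfl⟩

theorem core_conj_mem_self (ha : y ∈ A) (hx : x ∈ core A) : y⁻¹ * x * y ∈ core A := by
  rw [← img_eq_one_iff (mul_mem (mul_mem (inv_mem ha) (core_le hx)) ha), img_conj (core_le hx) ha,
    img_eq_one_of_mem_core hx, mul_one, inv_mul_cancel]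

/-! ### Odd and 2-power orders -/

theorem eq_one_of_odd_pow {X : Type*} [Group X] {q : X} {n m : ℕ} (hn : q ^ 2 ^ n = 1) (hm : Odd m)
    (hq : q ^ m = 1) : q = 1 := by
  have hc : (2 ^ n).Coprime m := (Nat.coprime_two_left.mpr hm).pow_left n
  have := Nat.eq_one_of_dvd_coprimes hc (orderOf_dvd_of_pow_eq_one hn) (orderOf_dvd_of_pow_eq_one hq)
  exact orderOf_eq_one_iff.mp this

variable [Finite G]

theorem odd_card_core : Odd (Nat.card (core A)) := by
  rw [core, card_subtype, ← Nat.coprime_two_right]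
  exact CfsgLib.PCore.pPrimeCore_coprime

theorem odd_orderOf_of_mem_core (hx : x ∈ core A) : Odd (orderOf x) :=
  odd_card_core.of_dvd_nat (Subgroup.orderOf_dvd_natCard _ hx)

theorem exists_odd_pow_of_mem_core (hx : x ∈ core A) : ∃ m : ℕ, Odd m ∧ x ^ m = 1 :=
  ⟨orderOf x, odd_orderOf_of_mem_core hx, pow_orderOf_eq_one x⟩

theorem eq_one_of_mem_core {n : ℕ} (hx : x ∈ core A) (hn : x ^ 2 ^ n = 1) : x = 1 :=
  eq_one_of_odd_pow hn (odd_orderOf_of_mem_core hx) (pow_orderOf_eq_one x)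

theorem eq_one_of_img_eq_one {n : ℕ} (hx : x ∈ A) (hn : x ^ 2 ^ n = 1) (h : img A x = 1) : x = 1 :=
  eq_one_of_mem_core ((img_eq_one_iff hx).mp h) hn

/-- A 2-element has the same order as its image. -/
theorem pow_eq_one_of_img {n k : ℕ} (hx : x ∈ A) (hn : x ^ 2 ^ n = 1) (h : img A x ^ 2 ^ k = 1) :
    x ^ 2 ^ k = 1 := by
  refine eq_one_of_img_eq_one (n := n) (pow_mem hx _) ?_ (by rw [img_pow hx, h])
  rw [← pow_mul, mul_comm, pow_mul, hn, one_pow]

/-- Orders of 2-power images agree. -/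
theorem img_pow_eq_one_of_img {A' : Subgroup G} {i j : ℕ} (hA : x ∈ A) (hA' : x ∈ A')
    (hi : img A x ^ 2 ^ i = 1) (hj : img A' x ^ 2 ^ j = 1) : img A x ^ 2 ^ j = 1 := by
  obtain ⟨m, hm, hxm⟩ := exists_odd_pow_of_mem_core
    ((img_eq_one_iff (pow_mem hA' _)).mp (by rw [img_pow hA', hj]))
  refine eq_one_of_odd_pow (n := i) ?_ hm ?_
  · rw [← pow_mul, mul_comm, pow_mul, hi, one_pow]
  · rw [← pow_mul, ← img_pow hA, pow_mul, hxm, img_one]

omit [Finite G] in
theorem exists_odd_pow_two_element {X : Type*} [Group X] [Finite X] (x : X) :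
    ∃ m : ℕ, Odd m ∧ ∃ a : ℕ, (x ^ m) ^ 2 ^ a = 1 := by
  obtain ⟨a, m, hm, hord⟩ :=
    Nat.exists_eq_pow_mul_and_not_dvd (orderOf_pos x).ne' 2 (by norm_num)
  refine ⟨m, Nat.odd_iff.mpr (by omega), a, ?_⟩
  rw [← pow_mul, mul_comm, ← hord, pow_orderOf_eq_one]

/-- A 2-element of `A / O(A)` lifts to a 2-element of the same order, a power of any given lift. -/
theorem exists_two_lift {q : OQ A} {n : ℕ} (hq : q ^ 2 ^ n = 1) (hx : x ∈ A) (hxq : img A x = q) :
    ∃ k : ℕ, (x ^ k) ^ 2 ^ n = 1 ∧ img A (x ^ k) = q := by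
  obtain ⟨m, hm, hxm⟩ := exists_odd_pow_of_mem_core
    ((img_eq_one_iff (pow_mem hx (2 ^ n))).mp (by rw [img_pow hx, hxq, hq]))
  -- a multiple of `m` congruent to one modulo the 2-power
  have hc : (m : ℕ).Coprime (2 ^ n) := (Nat.coprime_two_right.mpr hm).pow_right n
  obtain ⟨k, hk1, hk2⟩ := Nat.chineseRemainder hc 0 1
  refine ⟨k, ?_, ?_⟩
  · obtain ⟨d, rfl⟩ := Nat.modEq_zero_iff_dvd.mp hk1
    rw [← pow_mul, show m * d * 2 ^ n = 2 ^ n * m * d by ring, pow_mul, pow_mul, hxm, one_pow]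
  · rw [img_pow hx, hxq]
    have hd : orderOf q ∣ 2 ^ n := orderOf_dvd_of_pow_eq_one hq
    have := (pow_eq_pow_iff_modEq (x := q) (n := k) (m := 1)).mpr (hk2.of_dvd hd)
    rwa [pow_one] at this

/-! ### Changing the subgroup -/

theorem core_inf_le (hBA : B ≤ A) (hx : x ∈ core A) (hxB : x ∈ B) : x ∈ core B := by
  obtain ⟨a, ha, rfl⟩ := hx
  refine ⟨⟨a, hxB⟩, ?_, rfl⟩
  exact CfsgLib.PCore.comap_pPrimeCore_le (Subgroup.inclusion hBA) (Subgroup.inclusion_injective hBA)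
    (show Subgroup.inclusion hBA ⟨a, hxB⟩ ∈ Cfsg.pPrimeCore 2 ↥A from ha)

/-- Conjugation carries the core to the core. -/
theorem core_conj (g : G) (hAB : ∀ x, g⁻¹ * x * g ∈ B ↔ x ∈ A) (hx : x ∈ core A) :
    g⁻¹ * x * g ∈ core B := by
  let e : ↥A ≃* ↥B :=
    { toFun := fun a => ⟨g⁻¹ * a * g, (hAB a).mpr a.2⟩
      invFun := fun b => ⟨g * b * g⁻¹, (hAB _).mp (by simp [mul_assoc])⟩
      left_inv := fun a => Subtype.ext (by simp [mul_assoc])
      right_inv := fun b => Subtype.ext (by simp [mul_assoc])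
      map_mul' := fun a b => Subtype.ext (by simp [mul_assoc]) }
  obtain ⟨a, ha, rfl⟩ := hx
  exact ⟨e a, (CfsgLib.PCore.map_pPrimeCore_equiv (p := 2) e).le ⟨a, ha, rfl⟩, rfl⟩

/-- Conjugation respects equality of images. -/
theorem img_conj_congr (g : G) (hAB : ∀ x, g⁻¹ * x * g ∈ B ↔ x ∈ A) (hx : x ∈ A) (hy : y ∈ A)
    (h : img A x = img A y) : img B (g⁻¹ * x * g) = img B (g⁻¹ * y * g) := by
  rw [img_eq_iff ((hAB x).mpr hx) ((hAB y).mpr hy)]
  have := core_conj g hAB ((img_eq_iff hx hy).mp h)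
  convert this using 1
  group

/-! ### Involutions with the same image -/

/-- Two involutions of `A` with the same image are conjugate by an element of the core. -/
theorem exists_core_conj {i j : G} (hi : i ∈ A) (hj : j ∈ A) (hi2 : i * i = 1) (hj2 : j * j = 1)
    (h : img A i = img A j) : ∃ o ∈ core A, o⁻¹ * i * o = j := by
  have hk : i * j ∈ core A := by
    have := (img_eq_iff hi hj).mp h
    rwa [show i⁻¹ = i from inv_eq_of_mul_eq_one_right hi2] at this
  obtain ⟨m, hm, hkm⟩ := exists_odd_pow_of_mem_core hk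
  obtain ⟨d, rfl⟩ := hm
  refine ⟨(i * j) ^ (d + 1), pow_mem hk _, ?_⟩
  have hconj : i * (i * j) ^ (d + 1) = ((i * j) ^ (d + 1))⁻¹ * i := by
    have h1 : SemiconjBy i (i * j) (i * j)⁻¹ := by
      show i * (i * j) = (i * j)⁻¹ * i
      rw [mul_inv_rev, inv_eq_of_mul_eq_one_right hi2, inv_eq_of_mul_eq_one_right hj2, ← mul_assoc,
        hi2, one_mul, mul_assoc, hi2, mul_one]
    have := h1.pow_right (d + 1)
    rwa [inv_pow] at this
  calc ((i * j) ^ (d + 1))⁻¹ * i * (i * j) ^ (d + 1)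
      = i * ((i * j) ^ (d + 1) * (i * j) ^ (d + 1)) := by rw [← hconj, mul_assoc]
    _ = i * (i * j) := by
      rw [← pow_add, show d + 1 + (d + 1) = (2 * d + 1) + 1 by ring, pow_succ (i * j) (2 * d + 1),
        hkm, one_mul]
    _ = j := by rw [← mul_assoc, hi2, one_mul]

/-- A 2-element which normalizes `A` and fixes the coset of an involution fixes an involution in it. -/
theorem exists_fixed_involution {t i : G} {n : ℕ} (ht : t ^ 2 ^ n = 1)
    (hA : ∀ x, t⁻¹ * x * t ∈ A ↔ x ∈ A) (hi : i ∈ A) (hi2 : i * i = 1)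
    (hfix : img A (t⁻¹ * i * t) = img A i) :
    ∃ j ∈ A, j * j = 1 ∧ img A j = img A i ∧ t⁻¹ * j * t = j := by
  classical
  haveI : Fact (Nat.Prime 2) := ⟨Nat.prime_two⟩
  let Ω := {j : G // j ∈ A ∧ j * j = 1 ∧ img A j = img A i}
  have hsq : ∀ (a : G) (j : G), j * j = 1 → a⁻¹ * j * a * (a⁻¹ * j * a) = 1 := fun a j hj => by
    calc a⁻¹ * j * a * (a⁻¹ * j * a) = a⁻¹ * (j * j) * a := by group
      _ = 1 := by rw [hj]; group
  haveI : Fintype Ω := Fintype.ofFinite _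
  -- the number of such involutions is odd
  have hodd : ¬ 2 ∣ Fintype.card Ω := by
    intro h
    let s : Ω → Ω := fun j => ⟨i⁻¹ * j.1 * i, mul_mem (mul_mem (inv_mem hi) j.2.1) hi, hsq i j.1 j.2.2.1, by
      rw [img_conj j.2.1 hi, j.2.2.2, inv_mul_cancel, one_mul]⟩
    have hs : Function.Involutive s := fun j => Subtype.ext (by
      show i⁻¹ * (i⁻¹ * j.1 * i) * i = j.1
      rw [show i⁻¹ = i from inv_eq_of_mul_eq_one_right hi2]
      simp only [mul_assoc, hi2, mul_one]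
      rw [← mul_assoc, hi2, one_mul])
    have hσ : (hs.toPerm s) ^ 2 ^ 1 = 1 := by
      ext j
      rw [pow_one, pow_two, Equiv.Perm.mul_apply]
      exact congrArg Subtype.val (hs j)
    have hii : hs.toPerm s ⟨i, hi, hi2, rfl⟩ = ⟨i, hi, hi2, rfl⟩ :=
      Subtype.ext (by show i⁻¹ * i * i = i; group)
    obtain ⟨⟨j, hjA, hj2, hje⟩, hb, hne⟩ := Equiv.Perm.exists_fixed_point_of_prime' h hσ hii
    refine hne (Subtype.ext ?_)
    have hb' : i⁻¹ * j * i = j := congrArg Subtype.val hb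
    have hji : j * i = i * j := by
      calc j * i = i * (i⁻¹ * j * i) := by group
        _ = i * j := by rw [hb']
    have hk : i * j ∈ core A := by
      have := (img_eq_iff hi hjA).mp hje.symm
      rwa [show i⁻¹ = i from inv_eq_of_mul_eq_one_right hi2] at this
    have h1 : i * j = 1 := eq_one_of_mem_core (n := 1) hk (by
      rw [pow_one, pow_two, mul_assoc, ← mul_assoc j, hji, mul_assoc, hj2, mul_one, hi2])
    show j = i
    rw [← one_mul j, ← hi2, mul_assoc, h1, mul_one]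
  have hstable : ∀ j : Ω, t⁻¹ * j.1 * t ∈ A ∧ (t⁻¹ * j.1 * t) * (t⁻¹ * j.1 * t) = 1 ∧
      img A (t⁻¹ * j.1 * t) = img A i := fun j =>
    ⟨(hA _).mpr j.2.1, hsq t j.1 j.2.2.1, (img_conj_congr t hA j.2.1 hi j.2.2.2).trans hfix⟩
  let f : Ω → Ω := fun j => ⟨t⁻¹ * j.1 * t, hstable j⟩
  have hf : Function.Injective f := fun a b h => Subtype.ext (by
    have h' : t⁻¹ * a.1 * t = t⁻¹ * b.1 * t := congrArg Subtype.val h
    simpa using h')
  let σ : Equiv.Perm Ω := Equiv.ofBijective f (Finite.injective_iff_bijective.mp hf)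
  have hiter : ∀ (k : ℕ) (j : Ω), ((σ ^ k) j).1 = (t ^ k)⁻¹ * j.1 * t ^ k := by
    intro k
    induction k with
    | zero => intro j; simp
    | succ k ih =>
      intro j
      rw [pow_succ, Equiv.Perm.mul_apply, ih]
      show (t ^ k)⁻¹ * (t⁻¹ * j.1 * t) * t ^ k = _
      rw [pow_succ']
      group
  have hσ : σ ^ 2 ^ n = 1 := by
    ext j
    rw [hiter, ht]
    simp
  obtain ⟨j, hj⟩ := Equiv.Perm.exists_fixed_point_of_prime hodd hσ
  exact ⟨j.1, j.2.1, j.2.2.1, j.2.2.2, congrArg Subtype.val hj⟩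

end CfsgLib.Invol68
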