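import Cfsg.Agent.Lib.Components.PComponent
import Cfsg.Agent.Lib.Tech46.Balance
import Cfsg.Agent.Lib.Involutions.BrauerSuzuki
import Cfsg.Agent.Lib.TwoGroups.OneInvolution
import Cfsg.Agent.Lib.OddOrder.PuigSeries

/-!
Components with a unique involution.
-/

set_option autoImplicit false

namespace CfsgLib.Invol68

open Subgroup CfsgLib.Components
open scoped commutatorElement Pointwise

variable {X : Type*} [Group X]

/-- A component with the unique involution `c` and centre `{1, c}`. -/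
structure UC (P : Subgroup X) (c : X) : Prop where
  comp : Cfsg.IsComponent P
  mem : c ∈ P
  ord : orderOf c = 2
  uniq : ∀ x ∈ P, x * x = 1 → x = 1 ∨ x = c
  cen : ∀ x ∈ P, (∀ p ∈ P, p * x = x * p) → x = 1 ∨ x = c

variable [Finite X]

omit [Finite X] in
theorem pow_four_eq_one {Y : Type*} [Group Y] {x c : Y} (hx : x * x = c) (hc : c * c = 1) :
    x ^ 2 ^ 2 = 1 := by
  rw [show (2 : ℕ) ^ 2 = 1 + 1 + (1 + 1) from rfl]
  simp only [pow_add, pow_one]
  rw [hx, hc]

omit [Finite X] in
theorem isPGroup_zpowers {Y : Type*} [Group Y] {x : Y} {n : ℕ} (hx : x ^ 2 ^ n = 1) :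
    IsPGroup 2 (zpowers x) := by
  rintro ⟨g, hg⟩
  obtain ⟨k, rfl⟩ := mem_zpowers_iff.mp hg
  refine ⟨n, Subtype.ext ?_⟩
  rw [coe_pow, coe_one, ← zpow_natCast, ← zpow_mul, mul_comm, zpow_mul, zpow_natCast, hx, one_zpow]

/-- A quasisimple group has no cyclic Sylow 2-subgroup when its order is even. -/
theorem sylow_two_not_cyclic {H : Type*} [Group H] [Finite H] (h : Cfsg.IsQuasisimple H)
    (h2 : 2 ∣ Nat.card H) (S : Sylow 2 H) : ¬ IsCyclic (S : Subgroup H) := by
  intro hS
  have hPN : normalizer ((S : Subgroup H) : Set H) ≤ centralizer ((S : Subgroup H) : Set H) :=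
    IsCyclic.normalizer_le_centralizer ((Nat.minFac_eq_two_iff _).mpr h2) hS
  haveI : IsMulCommutative (S : Subgroup H) := hS.isMulCommutative
  have hker : (MonoidHom.transferSylow S hPN).ker = ⊤ := by
    rw [eq_top_iff, ← quasisimple_commutator_eq_top h, _root_.commutator_def, commutator_le]
    intro a _ b _
    rw [MonoidHom.mem_ker, map_commutatorElement, commutatorElement_eq_one_iff_mul_comm]
    exact mul_comm' _ _
  apply MonoidHom.not_dvd_card_ker_transferSylow S hPN
  rw [hker, card_top]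
  exact h2

theorem quaternion_central_sq {n : ℕ} (hn : 1 ≤ n) (g : QuaternionGroup (2 ^ n))
    (hg : ∀ h, g * h = h * g) : g * g = 1 := by
  haveI : NeZero (2 * 2 ^ n) := ⟨by positivity⟩
  cases g with
  | a i =>
    have h := hg (QuaternionGroup.xa 0)
    rw [QuaternionGroup.a_mul_xa, QuaternionGroup.xa_mul_a] at h
    have h' := QuaternionGroup.xa.inj h
    rw [zero_sub, zero_add] at h'
    rw [QuaternionGroup.a_mul_a, ← QuaternionGroup.a_zero]
    exact congrArg _ (by linear_combination -h')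
  | xa i =>
    have h := hg (QuaternionGroup.a 1)
    rw [QuaternionGroup.xa_mul_a, QuaternionGroup.a_mul_xa] at h
    have h' := QuaternionGroup.xa.inj h
    have h2 : ((2 : ℕ) : ZMod (2 * 2 ^ n)) = 0 := by push_cast; linear_combination h'
    have := (ZMod.natCast_eq_zero_iff 2 _).mp h2
    exfalso
    have h4 : 2 * 2 ^ n ≤ 2 := Nat.le_of_dvd (by norm_num) this
    have : 2 ≤ 2 ^ n := le_self_pow (by norm_num) (by omega)
    omega

/-- In a quasisimple group with a unique involution no element of order 4 is central. -/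
theorem no_central_four {H : Type*} [Group H] [Finite H] (h : Cfsg.IsQuasisimple H) {c y : H}
    (hc : orderOf c = 2) (hu : ∀ x : H, x * x = 1 → x = 1 ∨ x = c) (hy : y * y = c)
    (hyc : ∀ g, g * y = y * g) : False := by
  haveI : Fact (Nat.Prime 2) := ⟨Nat.prime_two⟩
  have h2 : 2 ∣ Nat.card H := hc ▸ orderOf_dvd_natCard c
  obtain ⟨S⟩ := (inferInstance : Nonempty (Sylow 2 H))
  have hy4 : y ^ 2 ^ 2 = 1 := pow_four_eq_one hy (by rw [← pow_two, ← hc, pow_orderOf_eq_one])
  have hyS : y ∈ (S : Subgroup H) := by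
    have hp : IsPGroup 2 (zpowers y) := isPGroup_zpowers hy4
    have hn : zpowers y ≤ normalizer ((S : Subgroup H) : Set H) := by
      rw [zpowers_le, mem_normalizer_iff]
      intro g
      rw [← hyc g, mul_inv_cancel_right]
    have := S.is_maximal' (hp.to_sup_of_normal_right' S.isPGroup' hn) le_sup_right
    exact this.le (mem_sup_left (mem_zpowers y))
  have huS : ∀ a b : (S : Subgroup H), orderOf a = 2 → orderOf b = 2 → a = b := by
    have : ∀ a : (S : Subgroup H), orderOf a = 2 → (a : H) = c := by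
      intro a ha
      refine (hu a ?_).resolve_left fun h1 => ?_
      · have := pow_orderOf_eq_one a
        rw [ha, pow_two] at this
        exact congrArg Subtype.val this
      · rw [← Subgroup.orderOf_coe, h1, orderOf_one] at ha
        omega
    exact fun a b ha hb => Subtype.ext ((this a ha).trans (this b hb).symm)
  obtain hcyc | ⟨n, hn, ⟨e⟩⟩ := CfsgLib.TwoGroups.OneInvolution.isCyclic_or_quaternion S.isPGroup' huS
  · exact sylow_two_not_cyclic h h2 S hcyc
  · have hz : ∀ g, e ⟨y, hyS⟩ * g = g * e ⟨y, hyS⟩ := by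
      intro g
      obtain ⟨g, rfl⟩ := e.surjective g
      rw [← map_mul, ← map_mul]
      exact congrArg e (Subtype.ext (hyc g).symm)
    have := quaternion_central_sq hn _ hz
    rw [← map_mul, MulEquiv.map_eq_one_iff] at this
    have h1 : y * y = 1 := congrArg Subtype.val this
    rw [hy] at h1
    rw [h1, orderOf_one] at hc
    omega

theorem uc_mk {P : Subgroup X} {c : X} (hO : Cfsg.pPrimeCore 2 X = ⊥) (hP : Cfsg.IsComponent P)
    (hcP : c ∈ P) (hc : orderOf c = 2) (hu : ∀ x ∈ P, x * x = 1 → x = 1 ∨ x = c) : UC P c := by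
  refine ⟨hP, hcP, hc, hu, fun x hx hxc => ?_⟩
  haveI : Fact (Nat.Prime 2) := ⟨Nat.prime_two⟩
  obtain ⟨a, m, hm, hord⟩ :=
    Nat.exists_eq_pow_mul_and_not_dvd (orderOf_pos x).ne' 2 (by norm_num)
  -- the odd part is trivial
  have hy : x ^ 2 ^ a = 1 := by
    have hle : zpowers (x ^ 2 ^ a) ≤ P := zpowers_le.mpr (pow_mem hx _)
    have hn : P ≤ normalizer ((zpowers (x ^ 2 ^ a) : Subgroup X) : Set X) := by
      refine le_trans ?_ (centralizer_le_normalizer _)
      rw [le_centralizer_iff, zpowers_le, mem_centralizer_iff]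
      intro p hp
      exact ((show Commute p x from hxc p hp).pow_right _).eq
    have hs : (zpowers (x ^ 2 ^ a)).IsSubnormal :=
      IsSubnormal.step _ _ hle hP.1 ((normal_subgroupOf_iff_le_normalizer hle).mpr hn)
    have hcop : (Nat.card (zpowers (x ^ 2 ^ a))).Coprime 2 := by
      rw [Nat.card_zpowers]
      refine Nat.Coprime.coprime_dvd_left (orderOf_dvd_of_pow_eq_one ?_ : _ ∣ m)
        ((Nat.Prime.coprime_iff_not_dvd Nat.prime_two).mpr hm).symm
      rw [← pow_mul, ← hord, pow_orderOf_eq_one]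
    have := CfsgLib.PCore.le_pPrimeCore_of_isSubnormal hs hcop
    rw [hO, le_bot_iff, zpowers_eq_bot] at this
    exact this
  rcases a with _ | _ | a
  · left
    simpa using hy
  · exact hu x hx (by rw [← pow_two]; simpa using hy)
  -- an element of order four
  exfalso
  have hx2 : ∀ k, k < a + 1 + 1 → x ^ 2 ^ k ≠ 1 := fun k hk h1 => by
    have hd := orderOf_dvd_of_pow_eq_one h1
    rw [hord] at hd
    have := Nat.le_of_dvd (pow_pos two_pos _) ((dvd_mul_right _ _).trans hd)
    have := (Nat.pow_le_pow_iff_right (Nat.one_lt_two)).mp this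
    omega
  have hz : x ^ 2 ^ a * x ^ 2 ^ a = c := by
    rw [← pow_add, ← two_mul, ← pow_succ']
    refine (hu _ (pow_mem hx _) ?_).resolve_left (hx2 _ (by omega))
    rw [← pow_add, ← two_mul, ← pow_succ']
    exact hy
  exact no_central_four hP.2 (c := ⟨c, hcP⟩) (y := ⟨x ^ 2 ^ a, pow_mem hx _⟩)
    (by rw [Subgroup.orderOf_mk]; exact hc)
    (fun g hg => (hu g g.2 (congrArg Subtype.val hg)).imp Subtype.ext Subtype.ext)
    (Subtype.ext hz) fun g => Subtype.ext ((show Commute (g : X) x from hxc g g.2).pow_right _).eq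

/-- `a` has order four in the component. -/
def Four (P : Subgroup X) (c a : X) : Prop := a ∈ P ∧ a * a = c

/-- `b⁻¹ a b = a⁻¹` for elements of order four. -/
def Anti (c a b : X) : Prop := b * a = a * b * c

namespace UC

variable {P : Subgroup X} {c : X}

omit [Finite X] in
theorem cc (h : UC P c) : c * c = 1 := by
  rw [← pow_two, ← h.ord, pow_orderOf_eq_one]

omit [Finite X] in
theorem c_inv (h : UC P c) : c⁻¹ = c := inv_eq_of_mul_eq_one_right h.cc

omit [Finite X] in
theorem c_ne (h : UC P c) : c ≠ 1 := fun e => by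
  have := h.ord
  rw [e, orderOf_one] at this
  omega

omit [Finite X] in
theorem c_fix (h : UC P c) {n : X} (hn : n ∈ normalizer (P : Set X)) : n⁻¹ * c * n = c := by
  have hm : n⁻¹ * c * n ∈ P := by
    have := (mem_normalizer_iff.mp (inv_mem hn) c).mp h.mem
    rwa [inv_inv] at this
  refine (h.uniq _ hm ?_).resolve_left fun e => h.c_ne ?_
  · calc n⁻¹ * c * n * (n⁻¹ * c * n) = n⁻¹ * (c * c) * n := by group
      _ = 1 := by rw [h.cc]; group
  · calc c = n * (n⁻¹ * c * n) * n⁻¹ := by group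
      _ = 1 := by rw [e]; group

omit [Finite X] in
theorem c_comm_of_normalizer (h : UC P c) {n : X} (hn : n ∈ normalizer (P : Set X)) : Commute n c := by
  show n * c = c * n
  conv_lhs => rw [← h.c_fix hn]
  group

omit [Finite X] in
theorem c_comm (h : UC P c) {p : X} (hp : p ∈ P) : Commute p c :=
  h.c_comm_of_normalizer (le_normalizer hp)

omit [Finite X] in
theorem four_ne (h : UC P c) {a : X} (ha : Four P c a) : a ≠ 1 ∧ a ≠ c :=
  ⟨fun e => h.c_ne (by rw [← ha.2, e, one_mul]), fun e => h.c_ne (by rw [← ha.2, e, h.cc])⟩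

omit [Finite X] in
theorem four_inv (h : UC P c) {a : X} (ha : Four P c a) : a⁻¹ = a * c := by
  refine inv_eq_of_mul_eq_one_right ?_
  rw [← mul_assoc, ha.2, h.cc]

omit [Finite X] in
theorem four_mul_c (h : UC P c) {a : X} (ha : Four P c a) : Four P c (a * c) := by
  refine ⟨mul_mem ha.1 h.mem, ?_⟩
  calc a * c * (a * c) = a * (c * a) * c := by group
    _ = a * a * (c * c) := by rw [← (h.c_comm ha.1).eq]; group
    _ = c := by rw [ha.2, h.cc, mul_one]

omit [Finite X] in
theorem four_conj (h : UC P c) {a n : X} (ha : Four P c a) (hn : n ∈ normalizer (P : Set X)) :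
    Four P c (n⁻¹ * a * n) := by
  refine ⟨?_, ?_⟩
  · have := (mem_normalizer_iff.mp (inv_mem hn) a).mp ha.1
    rwa [inv_inv] at this
  · calc n⁻¹ * a * n * (n⁻¹ * a * n) = n⁻¹ * (a * a) * n := by group
      _ = c := by rw [ha.2, h.c_fix hn]

omit [Finite X] in
theorem comm_four (h : UC P c) {a b : X} (ha : Four P c a) (hb : Four P c b) (hab : Commute a b) :
    b = a ∨ b = a * c := by
  have h1 : a⁻¹ * b * (a⁻¹ * b) = 1 := by
    calc a⁻¹ * b * (a⁻¹ * b) = a⁻¹ * (b * a⁻¹) * b := by group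
      _ = a⁻¹ * (a⁻¹ * b) * b := by rw [hab.inv_left.eq]
      _ = (a * a)⁻¹ * (b * b) := by group
      _ = 1 := by rw [ha.2, hb.2, inv_mul_cancel]
  obtain e | e := h.uniq _ (mul_mem (inv_mem ha.1) hb.1) h1
  · exact Or.inl (inv_mul_eq_one.mp e).symm
  · exact Or.inr (by rw [← e]; group)

omit [Finite X] in
theorem four_not_central (h : UC P c) {a : X} (ha : Four P c a) : ¬ ∀ p ∈ P, p * a = a * p :=
  fun hc => (h.cen a ha.1 hc).elim (h.four_ne ha).1 (h.four_ne ha).2

omit [Finite X] in
theorem anti_symm (h : UC P c) {a b : X} (ha : a ∈ P) (hb : b ∈ P) (hab : Anti c a b) : Anti c b a := by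
  unfold Anti at hab ⊢
  rw [hab, mul_assoc (a * b), h.cc, mul_one]

omit [Finite X] in
theorem anti_mul_c (h : UC P c) {a b : X} (ha : a ∈ P) (hb : b ∈ P) (hab : Anti c a b) :
    Anti c (a * c) b := by
  unfold Anti at hab ⊢
  calc b * (a * c) = b * a * c := by group
    _ = a * (b * c) * c := by rw [hab]; group
    _ = a * (c * b) * c := by rw [(h.c_comm hb).eq]
    _ = a * c * b * c := by group

omit [Finite X] in
theorem anti_conj (h : UC P c) {a b n : X} (hab : Anti c a b) (hn : n ∈ normalizer (P : Set X)) :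
    Anti c (n⁻¹ * a * n) (n⁻¹ * b * n) := by
  unfold Anti at hab ⊢
  calc n⁻¹ * b * n * (n⁻¹ * a * n) = n⁻¹ * (b * a) * n := by group
    _ = (n⁻¹ * a * n) * (n⁻¹ * b * n) * (n⁻¹ * c * n) := by rw [hab]; group
    _ = _ := by rw [h.c_fix hn]

omit [Finite X] in
theorem anti_conj_eq (h : UC P c) {a b : X} (ha : Four P c a) (hb : b ∈ P) (hab : Anti c a b) :
    a⁻¹ * b * a = b * c := by
  calc a⁻¹ * b * a = a⁻¹ * (b * a) := by group
    _ = a⁻¹ * (a * b * c) := by rw [hab]
    _ = b * c := by group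

omit [Finite X] in
theorem anti_mul_four (h : UC P c) {a b : X} (ha : Four P c a) (hb : Four P c b) (hab : Anti c a b) :
    Four P c (a * b) := by
  refine ⟨mul_mem ha.1 hb.1, ?_⟩
  calc a * b * (a * b) = a * (b * a) * b := by group
    _ = (a * a) * (b * c) * b := by rw [hab]; group
    _ = c * (c * b) * b := by rw [ha.2, (h.c_comm hb.1).eq]
    _ = c * c * (b * b) := by group
    _ = c := by rw [hb.2, h.cc, one_mul]

/-- A 2-element of the component other than `1, c` has a power of order four. -/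
theorem exists_pow_four (h : UC P c) {x : X} {n : ℕ} (hx : x ∈ P) (hn : x ^ 2 ^ n = 1) (h1 : x ≠ 1)
    (hc : x ≠ c) : ∃ j, Four P c (x ^ 2 ^ j) := by
  induction n generalizing x with
  | zero => exact absurd (by simpa using hn) h1
  | succ n ih =>
    by_cases h2 : x * x = c
    · exact ⟨0, by simpa using hx, by simpa using h2⟩
    by_cases h3 : x * x = 1
    · exact absurd ((h.uniq x hx h3).resolve_left h1) hc
    obtain ⟨j, hj⟩ := ih (mul_mem hx hx) (by rw [← pow_two, ← pow_mul, ← pow_succ']; exact hn) h3 h2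
    exact ⟨j + 1, by rwa [pow_succ', pow_mul, pow_two]⟩

/-- The involution of a nontrivial 2-element of the component is `c`. -/
theorem exists_pow_c (h : UC P c) {x : X} {n : ℕ} (hx : x ∈ P) (hn : x ^ 2 ^ n = 1) (h1 : x ≠ 1) :
    ∃ j, x ^ 2 ^ j = c := by
  by_cases hc : x = c
  · exact ⟨0, by simpa using hc⟩
  obtain ⟨j, hj⟩ := h.exists_pow_four hx hn h1 hc
  exact ⟨j + 1, by rw [pow_succ, pow_mul, pow_two]; exact hj.2⟩

theorem exists_four (h : UC P c) : ∃ a, Four P c a := by
  haveI : Fact (Nat.Prime 2) := ⟨Nat.prime_two⟩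
  by_contra hne
  have h2 : 2 ∣ Nat.card P := by
    rw [← h.ord]
    exact Subgroup.orderOf_dvd_natCard P h.mem
  obtain ⟨S⟩ := (inferInstance : Nonempty (Sylow 2 P))
  refine sylow_two_not_cyclic h.comp.2 h2 S ?_
  have hle : (S : Subgroup P) ≤ zpowers ⟨c, h.mem⟩ := fun x hxS => by
    obtain ⟨n, hn⟩ := S.isPGroup' ⟨x, hxS⟩
    have hn' : (x : X) ^ 2 ^ n = 1 := by
      simpa using congrArg (fun u : (S : Subgroup P) => ((u : P) : X)) hn
    by_cases h1 : (x : X) = 1
    · rw [show x = 1 from Subtype.ext h1]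
      exact one_mem _
    by_cases hc : (x : X) = c
    · rw [show x = ⟨c, h.mem⟩ from Subtype.ext hc]
      exact mem_zpowers _
    obtain ⟨j, hj⟩ := h.exists_pow_four x.2 hn' h1 hc
    exact absurd ⟨_, hj⟩ hne
  exact isCyclic_of_injective (Subgroup.inclusion hle) (Subgroup.inclusion_injective hle)

/-- If the conjugates of `i` under the component commuting with `i` modulo `⟨c⟩` are congruent to `i`,
then `i` centralizes the component (Glauberman). -/
theorem centralizes_of_isolated (h : UC P c) {i : X} (hi : i ∈ normalizer (P : Set X))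
    (hii : i * i = 1 ∨ i * i = c)
    (hiso : ∀ p ∈ P, (i * (p⁻¹ * i * p) = p⁻¹ * i * p * i ∨ i * (p⁻¹ * i * p) = p⁻¹ * i * p * i * c) →
      p⁻¹ * i * p = i ∨ p⁻¹ * i * p = i * c) : ∀ p ∈ P, p * i = i * p := by
  haveI : Fact (Nat.Prime 2) := ⟨Nat.prime_two⟩
  by_cases hi1 : i = 1 ∨ i = c
  · intro p hp
    rcases hi1 with rfl | rfl
    · simp
    · exact (h.c_comm hp).eq
  push Not at hi1
  set E := P ⊔ zpowers i
  have hiN : zpowers i ≤ normalizer (P : Set X) := zpowers_le.mpr hi
  have hEN : E ≤ normalizer (P : Set X) := sup_le le_normalizer hiN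
  have hcE : c ∈ E := mem_sup_left h.mem
  set Zc : Subgroup E := zpowers ⟨c, hcE⟩
  haveI hZn : Zc.Normal := ⟨fun z hz g => by
    obtain ⟨k, rfl⟩ := mem_zpowers_iff.mp hz
    have hcm : Commute g (⟨c, hcE⟩ : E) := Subtype.ext (h.c_comm_of_normalizer (hEN g.2)).eq
    rw [(hcm.zpow_right k).eq, mul_inv_cancel_right]
    exact zpow_mem (mem_zpowers _) k⟩
  let q := QuotientGroup.mk' Zc
  have hqeq : ∀ x y : E, q x = q y ↔ (y : X) = x ∨ (y : X) = x * c := by
    intro x y
    rw [QuotientGroup.mk'_apply, QuotientGroup.mk'_apply, QuotientGroup.eq, mem_zpowers_iff]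
    constructor
    · rintro ⟨k, hk⟩
      have hk' : c ^ k = (x : X)⁻¹ * y := by simpa using congrArg Subtype.val hk
      rcases Int.even_or_odd k with ⟨d, rfl⟩ | ⟨d, rfl⟩
      · left
        rw [← two_mul, zpow_mul, zpow_two, h.cc, one_zpow] at hk'
        exact (inv_mul_eq_one.mp hk'.symm).symm
      · right
        rw [zpow_add, zpow_mul, zpow_two, h.cc, one_zpow, one_mul, zpow_one] at hk'
        rw [hk']; group
    · rintro (e | e)
      · exact ⟨0, Subtype.ext (by simp [e])⟩
      · exact ⟨1, Subtype.ext (by simp [e])⟩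
  let iE : E := ⟨i, mem_sup_right (mem_zpowers i)⟩
  have hq2 : orderOf (q iE) = 2 := by
    refine orderOf_eq_prime ?_ fun e => ?_
    · rw [pow_two, ← map_mul, ← map_one q, hqeq]
      rcases hii with e | e
      · exact Or.inl (by simpa [iE] using e.symm)
      · exact Or.inr (by simp [iE, e, h.cc])
    · rw [← map_one q, hqeq] at e
      rcases e with e | e
      · exact hi1.1 e.symm
      · refine hi1.2 ?_
        calc i = i * (c * c) := by rw [h.cc, mul_one]
          _ = (i * c) * c := by group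
          _ = c := by rw [show i * c = 1 from e.symm, one_mul]
  have hisol : Cfsg.IsIsolatedInvolution (q iE) := by
    refine ⟨hq2, fun g hg => ?_⟩
    obtain ⟨⟨e, he⟩, rfl⟩ := QuotientGroup.mk'_surjective Zc g
    have he' : e ∈ (P : Set X) * (zpowers i : Set X) := by
      rw [← coe_mul_of_right_le_normalizer_left P _ hiN]; exact he
    obtain ⟨p, hp, j, hj, hpj⟩ := Set.mem_mul.mp he'
    obtain ⟨k, rfl⟩ := mem_zpowers_iff.mp hj
    have hconj : e * i * e⁻¹ = p * i * p⁻¹ := by rw [← hpj]; group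
    let jE : E := ⟨p, mem_sup_left hp⟩ * iE * (⟨p, mem_sup_left hp⟩ : E)⁻¹
    have hje : q ⟨e, he⟩ * q iE * (q ⟨e, he⟩)⁻¹ = q jE := by
      rw [← map_inv, ← map_mul, ← map_mul]
      exact congrArg q (Subtype.ext hconj)
    rw [hje] at hg ⊢
    have hg' := hg.eq
    rw [← map_mul, ← map_mul, hqeq] at hg'
    have hp' : p⁻¹⁻¹ * i * p⁻¹ = p * i * p⁻¹ := by rw [inv_inv]
    have hres := hiso p⁻¹ (inv_mem hp) (by
      rw [hp']
      rcases hg' with e | e
      · exact Or.inl e.symm
      · refine Or.inr ?_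
        have e' : p * i * p⁻¹ * i = i * (p * i * p⁻¹) * c := e
        rw [e', mul_assoc (i * _), h.cc, mul_one])
    rw [hqeq]
    rw [hp'] at hres
    rcases hres with e | e
    · exact Or.inl (show i = p * i * p⁻¹ from e.symm)
    · exact Or.inr (show i = p * i * p⁻¹ * c by rw [e, mul_assoc, h.cc, mul_one])
  have hz := CfsgLib.Involutions.zstar _ (q iE) hisol
  set N0 := ((Cfsg.pPrimeCore 2 (E ⧸ Zc)).comap q).map E.subtype
  have hN0 : P ≤ normalizer ((N0 ⊓ P : Subgroup X) : Set X) := fun p hp => by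
    refine inf_normalizer_le_normalizer_inf ⟨?_, le_normalizer hp⟩
    refine le_normalizer_map E.subtype ⟨⟨p, mem_sup_left hp⟩, ?_, rfl⟩
    exact le_normalizer_of_normal (mem_top _)
  obtain e | e := component_eq_or_commutator_of_normalized h.comp inf_le_right hN0
  · exfalso
    obtain ⟨a, ha⟩ := h.exists_four
    obtain ⟨⟨a', haE⟩, ha', rfl⟩ := (inf_eq_right.mp e) ha.1
    have ha2 : q ⟨a', haE⟩ ^ 2 ^ 1 = 1 := by
      rw [pow_one, pow_two, ← map_mul, ← map_one q, hqeq]
      exact Or.inr (by simp [show a' * a' = c from ha.2, h.cc])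
    have hodd : Odd (orderOf (q ⟨a', haE⟩)) := by
      refine Odd.of_dvd_nat ?_ (Subgroup.orderOf_dvd_natCard _ (Subgroup.mem_comap.mp ha'))
      rw [← Nat.coprime_two_right]
      exact CfsgLib.PCore.pPrimeCore_coprime
    have h1 : q ⟨a', haE⟩ = 1 := orderOf_eq_one_iff.mp (Nat.eq_one_of_dvd_coprimes
      ((Nat.coprime_two_left.mpr hodd).pow_left 1) (orderOf_dvd_of_pow_eq_one ha2) dvd_rfl)
    rw [← map_one q, hqeq] at h1
    rcases h1 with e1 | e1
    · exact (h.four_ne ha).1 e1.symm
    · exact (h.four_ne ha).2 (by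
        show a' = c
        calc a' = a' * c * c := by rw [mul_assoc, h.cc, mul_one]
          _ = c := by rw [show a' * c = 1 from e1.symm, one_mul])
  · have hcent : i ∈ centralizer (P : Set X) := by
      refine CfsgLib.Tech46.mem_centralizer_of_component_mod_center h.comp fun p hp => ?_
      have hmem : ⁅i, p⁆ ∈ N0 ⊓ P := by
        refine mem_inf.mpr ⟨?_, ?_⟩
        · refine ⟨⁅iE, ⟨p, mem_sup_left hp⟩⁆, ?_, rfl⟩
          have := hz (q ⟨p, mem_sup_left hp⟩)
          rw [← commutatorElement_def] at this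
          rw [SetLike.mem_coe, mem_comap, map_commutatorElement, ← commutatorElement_inv]
          exact inv_mem this
        · rw [commutatorElement_def]
          exact mul_mem ((mem_normalizer_iff.mp hi p).mp hp) (inv_mem hp)
      exact ⟨hmem.2, le_centralizer_of_commutator_eq_bot (by rwa [commutator_comm]) hmem⟩
    exact fun p hp => mem_centralizer_iff.mp hcent p hp

/-- Each element of order four is inverted by a conjugate of itself. -/
theorem exists_inverting (h : UC P c) {a : X} (ha : Four P c a) :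
    ∃ x ∈ P, Anti c a (x⁻¹ * a * x) := by
  by_contra hne
  push Not at hne
  refine h.four_not_central ha (h.centralizes_of_isolated (le_normalizer ha.1) (Or.inr ha.2)
    fun p hp hp' => ?_)
  rcases hp' with e | e
  · exact h.comm_four ha (h.four_conj ha (le_normalizer hp)) e
  · refine absurd ?_ (hne p hp)
    exact h.anti_symm (h.four_conj ha (le_normalizer hp)).1 ha.1 e

/-- An involution inducing a nontrivial automorphism inverts an element of order four. -/
theorem exists_inverted (h : UC P c) {t : X} (ht : t ∈ normalizer (P : Set X)) (ht2 : t * t = 1)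
    (hne : ¬ ∀ p ∈ P, p * t = t * p) : ∃ b, Four P c b ∧ t⁻¹ * b * t = b * c := by
  by_contra hno
  refine hne (h.centralizes_of_isolated ht (Or.inl ht2) fun p hp hp' => ?_)
  set j := p⁻¹ * t * p with hj
  have hj2 : j * j = 1 := by
    calc j * j = p⁻¹ * (t * t) * p := by rw [hj]; group
      _ = 1 := by rw [ht2]; group
  have hxP : t * j ∈ P := by
    have e : t * j = t * p⁻¹ * t⁻¹ * p := by rw [hj, inv_eq_of_mul_eq_one_right ht2]; group
    rw [e]
    exact mul_mem ((mem_normalizer_iff.mp ht _).mp (inv_mem hp)) hp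
  have hjN : j ∈ normalizer (P : Set X) :=
    mul_mem (mul_mem (inv_mem (le_normalizer hp)) ht) (le_normalizer hp)
  have hfour : t * j ≠ 1 → t * j ≠ c → t * j * (t * j) = 1 → False := fun h1 h2 h3 =>
    (h.uniq _ hxP h3).elim h1 h2
  rcases hp' with e | e
  · have h3 : t * j * (t * j) = 1 := by
      calc t * j * (t * j) = t * (j * t) * j := by group
        _ = (t * t) * (j * j) := by rw [← e]; group
        _ = 1 := by rw [ht2, hj2, one_mul]
    rcases h.uniq _ hxP h3 with e1 | e1
    · exact Or.inl (mul_left_cancel (e1.trans ht2.symm))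
    · refine Or.inr (mul_left_cancel (a := t) ?_)
      rw [e1, ← mul_assoc, ht2, one_mul]
  · exfalso
    refine hno ⟨t * j, ⟨hxP, ?_⟩, ?_⟩
    · calc t * j * (t * j) = t * j * (j * t * c) := by rw [← e]
        _ = t * (j * j) * t * c := by group
        _ = c := by rw [hj2, mul_one, ht2, one_mul]
    · calc t⁻¹ * (t * j) * t = j * t := by group
        _ = t * j * c := by rw [e, mul_assoc (j * t), h.cc, mul_one]

/-- A 2-element normalizing the component fixes an element of order four modulo `⟨c⟩`. -/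
theorem exists_fixed_mod (h : UC P c) {t : X} {n : ℕ} (ht : t ∈ normalizer (P : Set X))
    (htn : t ^ 2 ^ n = 1) : ∃ b, Four P c b ∧ (t⁻¹ * b * t = b ∨ t⁻¹ * b * t = b * c) := by
  haveI : Fact (Nat.Prime 2) := ⟨Nat.prime_two⟩
  set N := normalizer (P : Set X)
  have hp : IsPGroup 2 (zpowers (⟨t, ht⟩ : N)) :=
    isPGroup_zpowers (n := n) (Subtype.ext (by simpa using htn))
  obtain ⟨T, hT⟩ := hp.exists_le_sylow
  obtain ⟨a, ha⟩ := h.exists_four
  have hpa : IsPGroup 2 (zpowers (⟨a, le_normalizer ha.1⟩ : N)) :=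
    isPGroup_zpowers (n := 2) (Subtype.ext (by simpa using pow_four_eq_one ha.2 h.cc))
  obtain ⟨U, hU⟩ := hpa.exists_le_sylow
  obtain ⟨g, hg⟩ := MulAction.exists_smul_eq N U T
  have hgT : g * ⟨a, le_normalizer ha.1⟩ * g⁻¹ ∈ (T : Subgroup N) := by
    rw [← hg, Sylow.coe_subgroup_smul, Subgroup.mem_pointwise_smul_iff_inv_smul_mem]
    simpa [MulAut.smul_def, mul_assoc] using hU (mem_zpowers _)
  have ha1 : Four P c ((g : X) * a * (g : X)⁻¹) := by
    have := h.four_conj ha (inv_mem g.2)
    rwa [inv_inv] at this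
  have hcN : c ∈ N := le_normalizer h.mem
  have hcT : (⟨c, hcN⟩ : N) ∈ (T : Subgroup N) := by
    have := pow_mem hgT 2
    convert this using 1
    refine Subtype.ext ?_
    rw [pow_two]
    exact ha1.2.symm
  set Zc : Subgroup (T : Subgroup N) := zpowers ⟨⟨c, hcN⟩, hcT⟩
  haveI hZn : Zc.Normal := ⟨fun z hz g => by
    obtain ⟨k, rfl⟩ := mem_zpowers_iff.mp hz
    have hcm : Commute g (⟨⟨c, hcN⟩, hcT⟩ : (T : Subgroup N)) :=
      Subtype.ext (Subtype.ext (h.c_comm_of_normalizer g.1.2).eq)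
    rw [(hcm.zpow_right k).eq, mul_inv_cancel_right]
    exact zpow_mem (mem_zpowers _) k⟩
  let q := QuotientGroup.mk' Zc
  have hqeq : ∀ x y : (T : Subgroup N), q x = q y ↔ ((y : N) : X) = x ∨ ((y : N) : X) = ((x : N) : X) * c := by
    intro x y
    rw [QuotientGroup.mk'_apply, QuotientGroup.mk'_apply, QuotientGroup.eq, mem_zpowers_iff]
    constructor
    · rintro ⟨k, hk⟩
      have hk' : c ^ k = ((x : N) : X)⁻¹ * ((y : N) : X) := by
        simpa using congrArg (fun u : (T : Subgroup N) => ((u : N) : X)) hk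
      rcases Int.even_or_odd k with ⟨d, rfl⟩ | ⟨d, rfl⟩
      · left
        rw [← two_mul, zpow_mul, zpow_two, h.cc, one_zpow] at hk'
        exact (inv_mul_eq_one.mp hk'.symm).symm
      · right
        rw [zpow_add, zpow_mul, zpow_two, h.cc, one_zpow, one_mul, zpow_one] at hk'
        rw [hk']; group
    · rintro (e | e)
      · exact ⟨0, Subtype.ext (Subtype.ext (by simp [e]))⟩
      · exact ⟨1, Subtype.ext (Subtype.ext (by simp [e]))⟩
  set D := (P.subgroupOf N).subgroupOf (T : Subgroup N)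
  haveI : (P.subgroupOf N).Normal := normal_subgroupOf_of_le_normalizer le_rfl
  haveI hDn : D.Normal := inferInstance
  haveI : (D.map q).Normal := hDn.map q (QuotientGroup.mk'_surjective _)
  haveI : Group.IsNilpotent ((T : Subgroup N) ⧸ Zc) :=
    (T.isPGroup'.to_quotient Zc).isNilpotent
  have hne : D.map q ≠ ⊥ := by
    intro hb
    have hm : q ⟨_, hgT⟩ ∈ D.map q :=
      mem_map_of_mem q (show (⟨_, hgT⟩ : (T : Subgroup N)) ∈ D from ha1.1)
    rw [hb, mem_bot, ← map_one q, hqeq] at hm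
    rcases hm with e | e
    · exact (h.four_ne ha1).1 e.symm
    · refine (h.four_ne ha1).2 ?_
      calc (g : X) * a * (g : X)⁻¹ = (g : X) * a * (g : X)⁻¹ * c * c := by
            rw [mul_assoc _ c c, h.cc, mul_one]
        _ = c := by rw [show (g : X) * a * (g : X)⁻¹ * c = 1 from e.symm, one_mul]
  have hcne := CfsgLib.OddOrder.PuigSeries.inf_center_ne_bot (D.map q) hne
  obtain ⟨⟨v, hv⟩, hv1⟩ := Subgroup.ne_bot_iff_exists_ne_one.mp hcne
  replace hv1 : v ≠ 1 := fun e => hv1 (Subtype.ext e)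
  obtain ⟨hvc, x, hxD, rfl⟩ := mem_inf.mp hv
  set xX : X := ((x : N) : X)
  have hxP : xX ∈ P := hxD
  obtain ⟨k, hk⟩ := T.isPGroup' x
  have hk' : xX ^ 2 ^ k = 1 := by
    simpa [xX] using congrArg (fun u : (T : Subgroup N) => ((u : N) : X)) hk
  have hx1 : xX ≠ 1 ∧ xX ≠ c := by
    refine ⟨fun e => hv1 ?_, fun e => hv1 ?_⟩
    · rw [← map_one q, hqeq]
      exact Or.inl (by simpa [xX] using e.symm)
    · rw [← map_one q, hqeq]
      refine Or.inr ?_
      simp only [OneMemClass.coe_one]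
      rw [show ((x : N) : X) = c from e, h.cc]
  have hfix := (mem_center_iff.mp hvc (q ⟨⟨t, ht⟩, hT (mem_zpowers _)⟩)).symm
  rw [← map_mul, ← map_mul, hqeq] at hfix
  have hfix' : t⁻¹ * xX * t = xX ∨ t⁻¹ * xX * t = xX * c := by
    have e1 : t * xX = xX * t ∨ t * xX = xX * t * c := hfix
    rcases e1 with e | e
    · left
      rw [mul_assoc, ← e]; group
    · right
      have e2 : xX * t = t * xX * c := by rw [e, mul_assoc (xX * t), h.cc, mul_one]
      rw [mul_assoc, e2]; group
  obtain ⟨j, hj⟩ := h.exists_pow_four hxP hk' hx1.1 hx1.2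
  refine ⟨_, hj, ?_⟩
  have hconj : t⁻¹ * xX ^ 2 ^ j * t = (t⁻¹ * xX * t) ^ 2 ^ j := by
    have := conj_pow (a := t⁻¹) (b := xX) (i := 2 ^ j)
    rw [inv_inv] at this
    exact this.symm
  rw [hconj]
  rcases hfix' with e | e
  · exact Or.inl (by rw [e])
  rcases j with _ | j
  · exact Or.inr (by simpa using e)
  · left
    rw [e, (h.c_comm hxP).mul_pow, pow_succ', pow_mul c, pow_two c, h.cc, one_pow, mul_one]

/-- An element of order four fixed by a 2-element `t` is inverted by an element of order four which, with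
`t`, lies in a 2-group. -/
theorem exists_two_inverting (h : UC P c) {t b : X} {n : ℕ} (ht : t ∈ normalizer (P : Set X))
    (htn : t ^ 2 ^ n = 1) (hb : Four P c b) (hfix : t⁻¹ * b * t = b) :
    ∃ b', Four P c b' ∧ Anti c b b' ∧ ∃ k : ℕ, (t⁻¹ * b'⁻¹ * t * b') ^ 2 ^ k = 1 := by
  haveI : Fact (Nat.Prime 2) := ⟨Nat.prime_two⟩
  obtain ⟨x, hx, hanti⟩ := h.exists_inverting hb
  have hb1 := h.four_conj hb (le_normalizer hx)
  set b1 := x⁻¹ * b * x
  set N0 := normalizer (P : Set X) ⊓ normalizer ((zpowers b : Subgroup X) : Set X)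
  have hmemN0 : ∀ u, u ∈ normalizer (P : Set X) → (u * b * u⁻¹ = b ∨ u * b * u⁻¹ = b⁻¹) → u ∈ N0 := by
    intro u hu hc
    refine mem_inf.mpr ⟨hu, mem_normalizer_iff_map_conj_eq.mpr ?_⟩
    rw [MonoidHom.map_zpowers]
    show zpowers (u * b * u⁻¹) = zpowers b
    rcases hc with e | e
    · rw [e]
    · rw [e, zpowers_inv]
  have htN0 : t ∈ N0 := by
    refine hmemN0 t ht (Or.inl ?_)
    conv_lhs => rw [← hfix]
    group
  have hb1N0 : b1 ∈ N0 := by
    refine hmemN0 b1 (le_normalizer hb1.1) (Or.inr ?_)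
    rw [hanti, h.four_inv hb]
    calc b * b1 * c * b1⁻¹ = b * (b1 * c) * b1⁻¹ := by group
      _ = b * c := by rw [(h.c_comm hb1.1).eq]; group
  have hpt : IsPGroup 2 (zpowers (⟨t, htN0⟩ : N0)) :=
    isPGroup_zpowers (n := n) (Subtype.ext (by simpa using htn))
  have hpb : IsPGroup 2 (zpowers (⟨b1, hb1N0⟩ : N0)) :=
    isPGroup_zpowers (n := 2) (Subtype.ext (by simpa using pow_four_eq_one hb1.2 h.cc))
  obtain ⟨T, hT⟩ := hpt.exists_le_sylow
  obtain ⟨U, hU⟩ := hpb.exists_le_sylow
  obtain ⟨g, hg⟩ := MulAction.exists_smul_eq N0 U T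
  have hgT : g * ⟨b1, hb1N0⟩ * g⁻¹ ∈ (T : Subgroup N0) := by
    rw [← hg, Sylow.coe_subgroup_smul, Subgroup.mem_pointwise_smul_iff_inv_smul_mem]
    simpa [MulAut.smul_def, mul_assoc] using hU (mem_zpowers _)
  have hgN : (g : X) ∈ normalizer (P : Set X) := (mem_inf.mp g.2).1
  have hb' : Four P c ((g : X) * b1 * (g : X)⁻¹) := by
    have := h.four_conj hb1 (inv_mem hgN)
    rwa [inv_inv] at this
  have hgb : (g : X) * b * (g : X)⁻¹ = b ∨ (g : X) * b * (g : X)⁻¹ = b * c := by
    have hfour : Four P c ((g : X) * b * (g : X)⁻¹) := by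
      have := h.four_conj hb (inv_mem hgN)
      rwa [inv_inv] at this
    refine h.comm_four hb hfour ?_
    obtain ⟨k, hk⟩ := mem_zpowers_iff.mp
      ((mem_normalizer_iff.mp (mem_inf.mp g.2).2 b).mp (mem_zpowers b))
    rw [← hk]
    exact (Commute.refl b).zpow_right k
  refine ⟨_, hb', ?_, ?_⟩
  · have := h.anti_conj hanti (inv_mem hgN)
    rw [inv_inv] at this
    rcases hgb with e | e
    · rwa [e] at this
    · rw [e] at this
      have := h.anti_mul_c (h.four_mul_c hb).1 hb'.1 this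
      rwa [mul_assoc b c c, h.cc, mul_one] at this
  · obtain ⟨k, hk⟩ := T.isPGroup' (⟨⟨t, htN0⟩, hT (mem_zpowers _)⟩⁻¹ * ⟨_, hgT⟩⁻¹ *
      ⟨⟨t, htN0⟩, hT (mem_zpowers _)⟩ * ⟨_, hgT⟩)
    exact ⟨k, by simpa using congrArg (fun u : (T : Subgroup N0) => ((u : N0) : X)) hk⟩

end UC

end CfsgLib.Invol68
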