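import Cfsg.Agent.Lib.Invol68.Img
import Cfsg.Agent.Lib.Invol68.UComp
import Cfsg.Agent.Lib.Tech46.BBalance.PComp

/-!
2-components of the centralizer of their unique involution.
-/

set_option autoImplicit false

namespace CfsgLib.Invol68

open Subgroup CfsgLib.Components

variable {G : Type*} [Group G]

/-- The centralizer of an element. -/
abbrev Cz (t : G) : Subgroup G := centralizer ({t} : Set G)

theorem mem_Cz {t x : G} : x ∈ Cz t ↔ x * t = t * x := mem_centralizer_singleton_iff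

theorem self_mem_Cz (t : G) : t ∈ Cz t := mem_Cz.mpr rfl

theorem mem_Cz_comm {s t : G} : s ∈ Cz t ↔ t ∈ Cz s := by rw [mem_Cz, mem_Cz]; exact eq_comm

theorem mem_Cz_iff_conj {t x : G} : x ∈ Cz t ↔ x⁻¹ * t * x = t := by
  rw [mem_Cz, mul_assoc, inv_mul_eq_iff_eq_mul]
  exact eq_comm

theorem conj_mem_Cz_iff (g t : G) (x : G) : g⁻¹ * x * g ∈ Cz (g⁻¹ * t * g) ↔ x ∈ Cz t := by
  rw [mem_Cz, mem_Cz]
  constructor
  · intro h
    calc x * t = g * ((g⁻¹ * x * g) * (g⁻¹ * t * g)) * g⁻¹ := by group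
      _ = t * x := by rw [h]; group
  · intro h
    calc g⁻¹ * x * g * (g⁻¹ * t * g) = g⁻¹ * (x * t) * g := by group
      _ = g⁻¹ * t * g * (g⁻¹ * x * g) := by rw [h]; group

/-- The conjugate `g⁻¹ K g`. -/
def cjS (g : G) (K : Subgroup G) : Subgroup G := K.map (MulAut.conj g⁻¹).toMonoidHom

theorem mem_cjS {g x : G} {K : Subgroup G} : x ∈ cjS g K ↔ g * x * g⁻¹ ∈ K := by
  constructor
  · rintro ⟨k, hk, rfl⟩
    simpa [mul_assoc] using hk
  · intro h
    exact ⟨_, h, by simp [mul_assoc]⟩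

theorem conj_mem_cjS {g x : G} {K : Subgroup G} (h : x ∈ K) : g⁻¹ * x * g ∈ cjS g K :=
  mem_cjS.mpr (by simpa [mul_assoc] using h)

theorem cjS_mul (g h : G) (K : Subgroup G) : cjS (g * h) K = cjS h (cjS g K) := by
  ext x
  rw [mem_cjS, mem_cjS, mem_cjS]
  simp [mul_assoc]

theorem cjS_eq_self_iff {g : G} {K : Subgroup G} :
    cjS g K = K ↔ g ∈ normalizer (K : Set G) := by
  rw [← inv_mem_iff (x := g), mem_normalizer_iff_map_conj_eq]
  rfl

theorem cjS_one (K : Subgroup G) : cjS 1 K = K := cjS_eq_self_iff.mpr (one_mem _)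

/-- `J` is a 2-component of the centralizer of its unique involution `z`. -/
structure Intr (J : Subgroup G) (z : G) : Prop where
  mem : z ∈ J
  ord : orderOf z = 2
  uniq : ∀ t ∈ J, t * t = 1 → t = 1 ∨ t = z
  le : J ≤ Cz z
  pc : Cfsg.IsPComponent 2 (J.subgroupOf (Cz z))

namespace Intr

variable [Finite G] {J J' : Subgroup G} {z : G}

omit [Finite G] in
theorem zz (hJ : Intr J z) : z * z = 1 := by rw [← pow_two, ← hJ.ord, pow_orderOf_eq_one]

omit [Finite G] in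
theorem z_inv (hJ : Intr J z) : z⁻¹ = z := inv_eq_of_mul_eq_one_right hJ.zz

omit [Finite G] in
theorem z_ne (hJ : Intr J z) : z ≠ 1 := fun e => by
  have := hJ.ord
  rw [e, orderOf_one] at this
  omega

theorem img_z_ne (hJ : Intr J z) : img (Cz z) z ≠ 1 := fun h =>
  hJ.z_ne (eq_one_of_img_eq_one (n := 1) (self_mem_Cz z) (by rw [pow_one, pow_two, hJ.zz]) h)

theorem uc (hJ : Intr J z) : UC (Im (Cz z) J) (img (Cz z) z) := by
  haveI : Fact (Nat.Prime 2) := ⟨Nat.prime_two⟩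
  refine uc_mk CfsgLib.PCore.pPrimeCore_quotient_pPrimeCore hJ.pc.2.1
    (img_mem_Im hJ.mem (self_mem_Cz z)) (orderOf_eq_prime ?_ hJ.img_z_ne) fun q hq hq2 => ?_
  · rw [pow_two, ← img_mul (self_mem_Cz z) (self_mem_Cz z), hJ.zz, img_one]
  · obtain ⟨x, hxJ, hxA, rfl⟩ := mem_Im.mp hq
    obtain ⟨k, hk, hkq⟩ := exists_two_lift (n := 1) (by rw [pow_one, pow_two]; exact hq2) hxA rfl
    rw [← hkq]
    rcases hJ.uniq _ (pow_mem hxJ k) (by rwa [pow_one, pow_two] at hk) with e | e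
    · exact Or.inl (by rw [e, img_one])
    · exact Or.inr (by rw [e])

/-- A 2-element of `C(z)` with image in the image of `J` lies in `J`. -/
theorem mem_of_two (hJ : Intr J z) {x : G} {n : ℕ} (hx : x ∈ Cz z) (hn : x ^ 2 ^ n = 1)
    (hq : img (Cz z) x ∈ Im (Cz z) J) : x ∈ J := by
  haveI : Fact (Nat.Prime 2) := ⟨Nat.prime_two⟩
  have h := pComponent_eq hJ.pc
  have hmem : (⟨x, hx⟩ : Cz z) ∈ J.subgroupOf (Cz z) := by
    rw [h]
    refine mem_pElemClosure ?_ (n := n) (Subtype.ext (by simpa using hn))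
    rw [img_of_mem hx] at hq
    exact hq
  exact hmem

omit [Finite G] in
theorem pow_eq_z (hJ : Intr J z) : ∀ {n : ℕ} {x : G}, x ∈ J → x ^ 2 ^ n = 1 → x ≠ 1 →
    ∃ j, x ^ 2 ^ j = z := by
  intro n
  induction n with
  | zero => intro x _ hn h1; exact absurd (by simpa using hn) h1
  | succ n ih =>
    intro x hx hn h1
    by_cases h2 : x * x = 1
    · exact ⟨0, by simpa using (hJ.uniq x hx h2).resolve_left h1⟩
    obtain ⟨j, hj⟩ := ih (mul_mem hx hx) (by rw [← pow_two, ← pow_mul, ← pow_succ']; exact hn) h2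
    exact ⟨j + 1, by rwa [pow_succ', pow_mul, pow_two]⟩

/-- An element of order four of the image lifts to one of order four in `J`. -/
theorem exists_four_lift (hJ : Intr J z) {q : OQ (Cz z)}
    (hq : Four (Im (Cz z) J) (img (Cz z) z) q) :
    ∃ x ∈ J, x * x = z ∧ img (Cz z) x = q := by
  obtain ⟨x, hxJ, hxA, rfl⟩ := mem_Im.mp hq.1
  obtain ⟨k, hk, hkq⟩ := exists_two_lift (n := 2) (pow_four_eq_one hq.2 hJ.uc.cc) hxA rfl
  refine ⟨x ^ k, pow_mem hxJ k, ?_, hkq⟩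
  refine (hJ.uniq _ (mul_mem (pow_mem hxJ k) (pow_mem hxJ k)) ?_).resolve_left fun e => hJ.img_z_ne ?_
  · rw [← hk, show (2 : ℕ) ^ 2 = 1 + 1 + (1 + 1) from rfl]
    simp only [pow_add, pow_one]
  · rw [← hq.2, ← hkq, ← img_mul (pow_mem hxA k) (pow_mem hxA k), e, img_one]

/-- Conjugates are again of the same kind. -/
theorem conj (hJ : Intr J z) (g : G) : Intr (cjS g J) (g⁻¹ * z * g) := by
  haveI : Fact (Nat.Prime 2) := ⟨Nat.prime_two⟩
  refine ⟨conj_mem_cjS hJ.mem, ?_, fun t ht ht2 => ?_, fun x hx => ?_, ?_⟩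
  · rw [show g⁻¹ * z * g = MulAut.conj g⁻¹ z by simp, MulEquiv.orderOf_eq, hJ.ord]
  · obtain h | h := hJ.uniq _ (mem_cjS.mp ht) (by
      calc g * t * g⁻¹ * (g * t * g⁻¹) = g * (t * t) * g⁻¹ := by group
        _ = 1 := by rw [ht2]; group)
    · left
      calc t = g⁻¹ * (g * t * g⁻¹) * g := by group
        _ = 1 := by rw [h]; group
    · right
      calc t = g⁻¹ * (g * t * g⁻¹) * g := by group
        _ = g⁻¹ * z * g := by rw [h]
  · have := (conj_mem_Cz_iff g z (g * x * g⁻¹)).mpr (hJ.le (mem_cjS.mp hx))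
    simpa [mul_assoc] using this
  · let e : ↥(Cz z) ≃* ↥(Cz (g⁻¹ * z * g)) :=
      { toFun := fun a => ⟨g⁻¹ * a * g, (conj_mem_Cz_iff g z a).mpr a.2⟩
        invFun := fun b => ⟨g * b * g⁻¹, (conj_mem_Cz_iff g z _).mp (by
          rw [show g⁻¹ * (g * (b : G) * g⁻¹) * g = b by group]; exact b.2)⟩
        left_inv := fun a => Subtype.ext (by simp [mul_assoc])
        right_inv := fun b => Subtype.ext (by simp [mul_assoc])
        map_mul' := fun a b => Subtype.ext (by simp [mul_assoc]) }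
    have heq : (J.subgroupOf (Cz z)).map e.toMonoidHom = (cjS g J).subgroupOf (Cz (g⁻¹ * z * g)) := by
      ext ⟨x, hx⟩
      rw [mem_map_equiv, mem_subgroupOf, mem_subgroupOf, mem_cjS]
      rfl
    rw [← heq]
    refine CfsgLib.Tech46.BBalance.isPComponent_map e.surjective hJ.pc fun hle => ?_
    have h2 := pComponent_dvd_card hJ.pc
    rw [← card_map_of_injective (f := e.toMonoidHom) e.injective] at h2
    exact CfsgLib.PCore.not_dvd_card_pPrimeCore (h2.trans (card_dvd_of_le hle))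

theorem conj_same (hJ : Intr J z) {g : G} (hg : g ∈ Cz z) : Intr (cjS g J) z := by
  have := hJ.conj g
  rwa [mem_Cz_iff_conj.mp hg] at this

theorem eq_of_Im_eq (hJ : Intr J z) (hJ' : Intr J' z) (h : Im (Cz z) J = Im (Cz z) J') : J = J' := by
  haveI : Fact (Nat.Prime 2) := ⟨Nat.prime_two⟩
  have := pComponent_eq_of_map_eq hJ.pc hJ'.pc h
  rw [← map_subgroupOf_eq_of_le hJ.le, this, map_subgroupOf_eq_of_le hJ'.le]

/-- Images of two different such subgroups commute. -/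
theorem comm_of_ne (hJ : Intr J z) (hJ' : Intr J' z) (hne : J ≠ J') {p q : OQ (Cz z)}
    (hp : p ∈ Im (Cz z) J) (hq : q ∈ Im (Cz z) J') : Commute p q := by
  haveI : Fact (Nat.Prime 2) := ⟨Nat.prime_two⟩
  have := commutator_components_eq_bot hJ.pc.2.1 hJ'.pc.2.1 fun e => hne (hJ.eq_of_Im_eq hJ' e)
  exact commute_of_commutator_eq_bot this hp hq

theorem inter_of_ne (hJ : Intr J z) (hJ' : Intr J' z) (hne : J ≠ J') {p : OQ (Cz z)}
    (hp : p ∈ Im (Cz z) J) (hp' : p ∈ Im (Cz z) J') : p = 1 ∨ p = img (Cz z) z :=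
  hJ.uc.cen p hp fun _ hq => (hJ.comm_of_ne hJ' hne hq hp').eq

theorem img_cjS {g x : G} {q : OQ (Cz z)} (hg : g ∈ Cz z) (hx : x ∈ J) (hxA : x ∈ Cz z)
    (hq : img (Cz z) x = q) : (img (Cz z) g)⁻¹ * q * img (Cz z) g ∈ Im (Cz z) (cjS g J) := by
  rw [← hq, ← img_conj hxA hg]
  exact img_mem_Im (conj_mem_cjS hx) (mul_mem (mul_mem (inv_mem hg) hxA) hg)

omit [Finite G] in
theorem mem_Im_cjS {g : G} {q : OQ (Cz z)} (hg : g ∈ Cz z) (hq : q ∈ Im (Cz z) J) :
    (img (Cz z) g)⁻¹ * q * img (Cz z) g ∈ Im (Cz z) (cjS g J) := by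
  obtain ⟨x, hx, hxA, rfl⟩ := mem_Im.mp hq
  rw [← img_conj hxA hg]
  exact img_mem_Im (conj_mem_cjS hx) (mul_mem (mul_mem (inv_mem hg) hxA) hg)

omit [Finite G] in
theorem exists_of_mem_Im_cjS {g : G} {q : OQ (Cz z)} (hg : g ∈ Cz z)
    (hq : q ∈ Im (Cz z) (cjS g J)) :
    ∃ p ∈ Im (Cz z) J, q = (img (Cz z) g)⁻¹ * p * img (Cz z) g := by
  obtain ⟨x, hx, hxA, rfl⟩ := mem_Im.mp hq
  have hA : g * x * g⁻¹ ∈ Cz z := mul_mem (mul_mem hg hxA) (inv_mem hg)
  refine ⟨_, img_mem_Im (mem_cjS.mp hx) hA, ?_⟩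
  rw [← img_conj hA hg]
  congr 1
  group

omit [Finite G] in
theorem img_mem_normalizer {g : G} (hg : g ∈ Cz z) (hn : g ∈ normalizer (J : Set G)) :
    img (Cz z) g ∈ normalizer (Im (Cz z) J : Set (OQ (Cz z))) := by
  rw [mem_normalizer_iff]
  intro q
  have hgi := cjS_eq_self_iff.mpr (inv_mem hn)
  have hge := cjS_eq_self_iff.mpr hn
  constructor
  · intro hq
    have := mem_Im_cjS (g := g⁻¹) (inv_mem hg) hq
    rwa [hgi, img_inv hg, inv_inv] at this
  · intro hq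
    have := mem_Im_cjS (g := g) hg hq
    rw [hge] at this
    simpa [mul_assoc] using this

/-- An element of `C(z)` whose image normalizes the image of `J` normalizes `J`. -/
theorem mem_normalizer_of_img (hJ : Intr J z) {g : G} (hg : g ∈ Cz z)
    (h : img (Cz z) g ∈ normalizer (Im (Cz z) J : Set (OQ (Cz z)))) :
    g ∈ normalizer (J : Set G) := by
  rw [← cjS_eq_self_iff]
  refine (hJ.conj_same hg).eq_of_Im_eq hJ ?_
  ext q
  constructor
  · intro hq
    obtain ⟨p, hp, rfl⟩ := exists_of_mem_Im_cjS hg hq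
    have := (mem_normalizer_iff.mp (inv_mem h) p).mp hp
    rwa [inv_inv] at this
  · intro hq
    have := mem_Im_cjS (g := g) hg ((mem_normalizer_iff.mp h q).mp hq)
    simpa [mul_assoc] using this

theorem card_Im (hJ : Intr J z) :
    Nat.card (Im (Cz z) J) = Nat.card (↥J ⧸ Cfsg.oddCore ↥J) := by
  haveI : Fact (Nat.Prime 2) := ⟨Nat.prime_two⟩
  set A := Cz z
  set J0 := J.subgroupOf A
  set π := QuotientGroup.mk' (Cfsg.pPrimeCore 2 ↥A)
  have hker : ((π).subgroupMap J0).ker = Cfsg.pPrimeCore 2 ↥J0 := by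
    apply map_injective (subtype_injective J0)
    rw [map_pPrimeCore_eq_inf hJ.pc.1]
    ext x
    simp only [mem_map, MonoidHom.mem_ker, mem_inf, subtype_apply]
    constructor
    · rintro ⟨y, hy, rfl⟩
      exact ⟨y.2, (QuotientGroup.eq_one_iff _).mp (congrArg Subtype.val hy)⟩
    · rintro ⟨h1, h2⟩
      exact ⟨⟨x, h1⟩, Subtype.ext ((QuotientGroup.eq_one_iff _).mpr h2), rfl⟩
  let e1 : (↥J0 ⧸ Cfsg.pPrimeCore 2 ↥J0) ≃* (J0.map π : Subgroup (OQ A)) :=
    (QuotientGroup.quotientMulEquivOfEq hker.symm).trans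
      (QuotientGroup.quotientKerEquivOfSurjective _ (π.subgroupMap_surjective J0))
  let e2 : (↥J0 ⧸ Cfsg.pPrimeCore 2 ↥J0) ≃* (↥J ⧸ Cfsg.pPrimeCore 2 ↥J) :=
    QuotientGroup.congr _ _ (subgroupOfEquivOfLe hJ.le)
      (CfsgLib.PCore.map_pPrimeCore_equiv _)
  exact (Nat.card_congr e1.symm.toEquiv).trans (Nat.card_congr e2.toEquiv)

end Intr

variable [Finite G]

/-- Elements of the centralizer of the image of an involution lift to its centralizer. -/
theorem exists_lift_centralizer {A : Subgroup G} {i : G} (hi : i ∈ A) (hi2 : i * i = 1) {q : OQ A}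
    (hq : Commute q (img A i)) : ∃ x ∈ A, x ∈ Cz i ∧ img A x = q := by
  obtain ⟨x, hx, rfl⟩ := exists_img_eq q
  have hix : img A (x⁻¹ * i * x) = img A i := by
    rw [img_conj hi hx, mul_assoc, ← hq.eq, inv_mul_cancel_left]
  obtain ⟨o, ho, hoe⟩ := exists_core_conj (mul_mem (mul_mem (inv_mem hx) hi) hx) hi (by
    calc x⁻¹ * i * x * (x⁻¹ * i * x) = x⁻¹ * (i * i) * x := by group
      _ = 1 := by rw [hi2]; group) hi2 hix
  refine ⟨x * o, mul_mem hx (core_le ho), mem_Cz_iff_conj.mpr ?_, ?_⟩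
  · calc (x * o)⁻¹ * i * (x * o) = o⁻¹ * (x⁻¹ * i * x) * o := by group
      _ = i := hoe
  · rw [img_mul hx (core_le ho), img_eq_one_of_mem_core ho, mul_one]

/-- 2-elements of the centralizer of the image of an involution lift to 2-elements of its centralizer. -/
theorem exists_two_lift_centralizer {A : Subgroup G} {i : G} (hi : i ∈ A) (hi2 : i * i = 1) {q : OQ A}
    (hq : Commute q (img A i)) {n : ℕ} (hn : q ^ 2 ^ n = 1) :
    ∃ x ∈ A, x ∈ Cz i ∧ x ^ 2 ^ n = 1 ∧ img A x = q := by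
  obtain ⟨x, hx, hxi, hxq⟩ := exists_lift_centralizer hi hi2 hq
  obtain ⟨k, hk, hkq⟩ := exists_two_lift hn hx hxq
  exact ⟨x ^ k, pow_mem hx k, pow_mem hxi k, hk, hkq⟩

/-- The image of the centralizer of an involution. -/
theorem Im_eq_centralizer {A B : Subgroup G} {i : G} (hB : ∀ x, x ∈ B ↔ x ∈ A ∧ x ∈ Cz i)
    (hi : i ∈ A) (hi2 : i * i = 1) : Im A B = centralizer ({img A i} : Set (OQ A)) := by
  ext q
  rw [mem_centralizer_singleton_iff]
  constructor
  · intro hq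
    obtain ⟨x, hx, hxA, rfl⟩ := mem_Im.mp hq
    rw [← img_mul hxA hi, ← img_mul hi hxA, mem_Cz.mp ((hB x).mp hx).2]
  · intro hq
    obtain ⟨x, hx, hxi, rfl⟩ := exists_lift_centralizer hi hi2 hq
    exact img_mem_Im ((hB x).mpr ⟨hx, hxi⟩) hx

end CfsgLib.Invol68
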