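import Cfsg.Agent.Lib.Invol68.Intrinsic
import Cfsg.Agent.Lib.Invol68.Diag
import Cfsg.Agent.Lib.Components.Local

/-!
Elements of `C(z) ∩ C(w)` moving a 2-component of `C(w)`.
-/

set_option autoImplicit false

namespace CfsgLib.Invol68

open Subgroup CfsgLib.Components

variable {G : Type*} [Group G] [Finite G] {J K : Subgroup G} {z w y g : G}

theorem img_w_ne (hz : z * z = 1) (hw : w * w = 1) (hwz : w ∈ Cz z) (hne : z ≠ w) :
    img (Cz z) w ≠ img (Cz z) z := fun h => by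
  obtain ⟨o, ho, hoe⟩ := exists_core_conj hwz (self_mem_Cz z) hw hz h
  have ho' : o ∈ Cz z := core_le ho
  refine hne ?_
  calc z = o * z * o⁻¹ := by rw [mem_Cz.mp ho', mul_inv_cancel_right]
    _ = o * (o⁻¹ * w * o) * o⁻¹ := by rw [hoe]
    _ = w := by group

/-- A nontrivial 2-image of an element of `K` has the image of `w` among its powers. -/
theorem exists_pow_w (hK : Intr K w) {A : Subgroup G} {d : G} {n : ℕ} (hdK : d ∈ K) (hdA : d ∈ A)
    (hn : img A d ^ 2 ^ n = 1) (h1 : img A d ≠ 1) : ∃ j, img A d ^ 2 ^ j = img A w := by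
  obtain ⟨k, hk, hkq⟩ := exists_two_lift hn hdA rfl
  have hne : d ^ k ≠ 1 := fun e => h1 (by rw [← hkq, e, img_one])
  obtain ⟨j, hj⟩ := hK.pow_eq_z (pow_mem hdK k) hk hne
  exact ⟨j, by rw [← hj, img_pow (pow_mem hdA k), hkq]⟩

theorem invol_eq_w (hK : Intr K w) {A : Subgroup G} {d : G} (hwA : img A w ≠ 1)
    (hdK : d ∈ K) (hdA : d ∈ A) (hn : img A d * img A d = 1) (h1 : img A d ≠ 1) :
    img A d = img A w := by
  obtain ⟨j, hj⟩ := exists_pow_w hK (n := 1) hdK hdA (by rw [pow_one, pow_two, hn]) h1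
  rcases j with _ | j
  · simpa using hj
  · rw [pow_succ', pow_mul, pow_two, hn, one_pow] at hj
    exact absurd hj.symm hwA

/-- The behaviour in `C(w)/O(C(w))` of `y⁻¹ y^g` when `g` moves `K`. -/
theorem moves_data (hK : Intr K w) {f : ℕ} (hyK : y ∈ K) (hy : y ^ 2 ^ (f + 1) = w) (hg : g ∈ Cz w)
    (hgK : g ∉ normalizer (K : Set G)) :
    Commute (img (Cz w) y) (img (Cz w) (g⁻¹ * y * g)) ∧
    img (Cz w) (y⁻¹ * (g⁻¹ * y * g)) ^ 2 ^ (f + 1) = 1 ∧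
    img (Cz w) (y⁻¹ * (g⁻¹ * y * g)) ^ 2 ^ f ≠ 1 ∧
    (y⁻¹ * (g⁻¹ * y * g))⁻¹ * y⁻¹ * (y⁻¹ * (g⁻¹ * y * g)) * y ∈ core (Cz w) := by
  set Y := img (Cz w) y with hY
  set Y2 := img (Cz w) (g⁻¹ * y * g) with hY2
  have hyA : y ∈ Cz w := hK.le hyK
  have hy2A : g⁻¹ * y * g ∈ Cz w := mul_mem (mul_mem (inv_mem hg) hyA) hg
  have hne : cjS g K ≠ K := fun e => hgK (cjS_eq_self_iff.mp e)
  have hK2 := hK.conj_same hg
  have hcomm : Commute Y Y2 :=
    hK.comm_of_ne hK2 (Ne.symm hne) (img_mem_Im hyK hyA) (img_mem_Im (conj_mem_cjS hyK) hy2A)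
  have hd : img (Cz w) (y⁻¹ * (g⁻¹ * y * g)) = Y⁻¹ * Y2 := by rw [img_mul (inv_mem hyA) hy2A, img_inv hyA]
  have hpow : ∀ n, img (Cz w) (y⁻¹ * (g⁻¹ * y * g)) ^ n = (Y ^ n)⁻¹ * Y2 ^ n := fun n => by
    rw [hd, hcomm.inv_left.mul_pow, inv_pow]
  have hYp : Y ^ 2 ^ (f + 1) = img (Cz w) w := by rw [hY, ← img_pow hyA, hy]
  have hY2p : Y2 ^ 2 ^ (f + 1) = img (Cz w) w := by
    rw [hY2, ← img_pow hy2A]
    congr 1
    have := conj_pow (i := 2 ^ (f + 1)) (a := g⁻¹) (b := y)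
    rw [inv_inv] at this
    rw [this, hy, mem_Cz_iff_conj.mp hg]
  refine ⟨hcomm, ?_, ?_, ?_⟩
  · rw [hpow, hYp, hY2p, inv_mul_cancel]
  · rw [hpow]
    intro e
    have e' : Y ^ 2 ^ f = Y2 ^ 2 ^ f := inv_mul_eq_one.mp e
    have hfour : Four (Im (Cz w) K) (img (Cz w) w) (Y ^ 2 ^ f) :=
      ⟨pow_mem (img_mem_Im hyK hyA) _, by rw [← pow_add, ← two_mul, ← pow_succ', hYp]⟩
    have hmem : Y ^ 2 ^ f ∈ Im (Cz w) (cjS g K) := by
      rw [e']; exact pow_mem (img_mem_Im (conj_mem_cjS hyK) hy2A) _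
    rcases hK.inter_of_ne hK2 (Ne.symm hne) hfour.1 hmem with h | h
    · exact (hK.uc.four_ne hfour).1 h
    · exact (hK.uc.four_ne hfour).2 h
  · have hdA : y⁻¹ * (g⁻¹ * y * g) ∈ Cz w := mul_mem (inv_mem hyA) hy2A
    rw [← img_eq_one_iff (mul_mem (mul_mem (mul_mem (inv_mem hdA) (inv_mem hyA)) hdA) hyA),
      img_mul (mul_mem (mul_mem (inv_mem hdA) (inv_mem hyA)) hdA) hyA,
      img_mul (mul_mem (inv_mem hdA) (inv_mem hyA)) hdA, img_mul (inv_mem hdA) (inv_mem hyA),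
      img_inv hdA, img_inv hyA, hd]
    calc (Y⁻¹ * Y2)⁻¹ * Y⁻¹ * (Y⁻¹ * Y2) * Y = Y2⁻¹ * Y⁻¹ * (Y2 * Y) := by group
      _ = Y2⁻¹ * Y⁻¹ * (Y * Y2) := by rw [hcomm.eq]
      _ = 1 := by group

/-- The image of `y⁻¹ y^g`. -/
theorem img_comm_elt {A : Subgroup G} (hy : y ∈ A) (hg : g ∈ A) :
    img A (y⁻¹ * (g⁻¹ * y * g)) = ((img A y)⁻¹ * img A g * img A y)⁻¹ * img A g := by
  rw [img_mul (inv_mem hy) (mul_mem (mul_mem (inv_mem hg) hy) hg), img_inv hy, img_conj hy hg]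
  group

/-- A component of the centralizer of the image of `w` commuting with its `y`-conjugate cannot contain
a suitable 2-element. -/
theorem swap_false (hK : Intr K w) (hyK : y ∈ K) (hyy : y * y = w) (hyz : y ∈ Cz z)
    (hwne : img (Cz z) w ≠ 1) {D : Subgroup (OQ (Cz z))} (hq : Cfsg.IsQuasisimple D)
    (hDW : D ≤ centralizer ({img (Cz z) w} : Set (OQ (Cz z))))
    (hsub : (D.subgroupOf (centralizer ({img (Cz z) w} : Set (OQ (Cz z))))).IsSubnormal)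
    (hodd : ∀ δ ∈ D, Odd (orderOf δ) → (∀ p ∈ D, p * δ = δ * p) → δ = 1)
    (hcomm : ∀ a ∈ D, ∀ b ∈ D, Commute a ((img (Cz z) y)⁻¹ * b * img (Cz z) y))
    {δ0 : OQ (Cz z)} (hδ : δ0 ∈ D) (hδ4 : δ0 ^ 2 ^ 2 = 1) (hδne : ∃ p ∈ D, p * δ0 ≠ δ0 * p)
    (hδfix : (img (Cz z) y)⁻¹ * (δ0 * δ0) * img (Cz z) y = δ0 * δ0) : False := by
  haveI : Fact (Nat.Prime 2) := ⟨Nat.prime_two⟩
  set Y := img (Cz z) y with hY
  set W := img (Cz z) w with hW
  have hwA : w ∈ (Cz z) := hyy ▸ mul_mem hyz hyz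
  have hww : w * w = 1 := hK.zz
  set H := (Cz z) ⊓ Cz w with hH
  have hWfix : ∀ δ ∈ D, Commute δ W := fun δ hd => mem_centralizer_singleton_iff.mp (hDW hd)
  have hYY : ∀ δ ∈ D, Y⁻¹ * (Y⁻¹ * δ * Y) * Y = δ := by
    intro δ hd
    calc Y⁻¹ * (Y⁻¹ * δ * Y) * Y = (Y * Y)⁻¹ * (δ * (Y * Y)) := by group
      _ = δ := by rw [hY, ← img_mul hyz hyz, hyy, ← hW, (hWfix δ hd).eq, inv_mul_cancel_left]
  have hlift : ∀ δ ∈ D, ∃ g ∈ H, img (Cz z) g = δ := fun δ hd => by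
    obtain ⟨g, hgA, hgw, hgq⟩ := exists_lift_centralizer hwA hww (hWfix δ hd)
    exact ⟨g, ⟨hgA, hgw⟩, hgq⟩
  have hsol : ∀ d ∈ Cz w, d ∈ (Cz z) → d ∈ core (Cz w) → ∀ δ ∈ D, Commute δ (img (Cz z) d) := by
    intro d hdw hdA hdc δ hd
    set M := Im (Cz z) (core H)
    have hdM : img (Cz z) d ∈ M :=
      img_mem_Im (core_inf_le (inf_le_right : H ≤ Cz w) hdc ⟨hdA, hdw⟩) hdA
    set C := centralizer ({W} : Set (OQ (Cz z)))
    have hMC : M ≤ C := by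
      intro q hq
      obtain ⟨x, hx, hxA, rfl⟩ := mem_Im.mp hq
      rw [mem_centralizer_singleton_iff, hW, ← img_mul hxA hwA, ← img_mul hwA hxA,
        mem_Cz.mp (core_le hx).2]
    have hMn : ∀ c ∈ C, ∀ q ∈ M, c * q * c⁻¹ ∈ M := by
      intro c hc q hq
      obtain ⟨x, hx, hxA, rfl⟩ := mem_Im.mp hq
      obtain ⟨u, hu, huw, rfl⟩ :=
        exists_lift_centralizer hwA hww (show Commute c W from mem_centralizer_singleton_iff.mp hc)
      have hxu : (u⁻¹)⁻¹ * x * u⁻¹ ∈ core H := core_conj_mem_self (inv_mem ⟨hu, huw⟩) hx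
      rw [inv_inv] at hxu
      rw [← img_inv hu, ← img_mul hu hxA, ← img_mul (mul_mem hu hxA) (inv_mem hu)]
      exact img_mem_Im hxu (mul_mem (mul_mem hu hxA) (inv_mem hu))
    haveI hn : (M.subgroupOf C).Normal := ⟨fun q hq c => hMn c c.2 q hq⟩
    have hModd : Odd (Nat.card M) :=
      (odd_card_core (A := H)).of_dvd_nat ((card_map_dvd _ _).trans (card_comap_dvd_of_injective
        (core H) (Cz z).subtype (Cz z).subtype_injective))
    have hD : Cfsg.IsComponent (D.subgroupOf C) :=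
      ⟨hsub, isQuasisimple_of_mulEquiv hq (subgroupOfEquivOfLe hDW).symm⟩
    obtain h | h := le_or_commutator_eq_bot hD hn.isSubnormal
    · exfalso
      have hDM : D ≤ M := le_of_subgroupOf_le hDW h
      obtain ⟨p, hp, hne⟩ := hδne
      have hone : δ0 = 1 :=
        eq_one_of_odd_pow hδ4 (hModd.of_dvd_nat (Subgroup.orderOf_dvd_natCard M (hDM hδ)))
          (pow_orderOf_eq_one δ0)
      exact hne (by rw [hone, mul_one, one_mul])
    · exact commute_of_commutator_eq_bot ((commutator_subgroupOf_eq_bot_iff hDW hMC).mp h) hd hdM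
  -- lifts of nontrivial elements of odd order normalize `K`
  have hkey : ∀ g ∈ H, img (Cz z) g ∈ D → img (Cz z) g ≠ 1 → Odd (orderOf (img (Cz z) g)) →
      g ∈ normalizer (K : Set G) := by
    intro g hg hgD hg1 hgo
    by_contra hgK
    obtain ⟨-, -, -, hcore⟩ := moves_data hK (f := 0) hyK (by simpa [pow_two] using hyy) hg.2 hgK
    set d := y⁻¹ * (g⁻¹ * y * g) with hd
    have hdA : d ∈ (Cz z) := mul_mem (inv_mem hyz) (mul_mem (mul_mem (inv_mem hg.1) hyz) hg.1)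
    have hk := hsol _ (core_le hcore)
      (mul_mem (mul_mem (mul_mem (inv_mem hdA) (inv_mem hyz)) hdA) hyz) hcore
    set δ := img (Cz z) g
    set δ' := Y⁻¹ * δ * Y with hδ'
    have he : img (Cz z) (d⁻¹ * y⁻¹ * d * y) = δ⁻¹ * δ⁻¹ * (δ' * δ') := by
      have hdq : img (Cz z) d = δ'⁻¹ * δ := img_comm_elt hyz hg.1
      rw [img_mul (mul_mem (mul_mem (inv_mem hdA) (inv_mem hyz)) hdA) hyz,
        img_mul (mul_mem (inv_mem hdA) (inv_mem hyz)) hdA, img_mul (inv_mem hdA) (inv_mem hyz),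
        img_inv hdA, img_inv hyz, hdq, ← hY]
      calc (δ'⁻¹ * δ)⁻¹ * Y⁻¹ * (δ'⁻¹ * δ) * Y
          = δ⁻¹ * δ' * ((Y⁻¹ * δ' * Y)⁻¹ * (Y⁻¹ * δ * Y)) := by group
        _ = δ⁻¹ * (δ' * δ⁻¹) * δ' := by rw [hδ', hYY δ hgD]; group
        _ = δ⁻¹ * (δ⁻¹ * δ') * δ' := by rw [(hcomm δ hgD δ hgD).inv_left.eq]
        _ = _ := by group
    -- so `δ²` is central in `D`
    have hcen : ∀ p ∈ D, Commute p (δ * δ) := fun p hp => by
      have h2 : Commute p (δ' * δ') := (hcomm p hp δ hgD).mul_right (hcomm p hp δ hgD)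
      have h3 : Commute p (δ⁻¹ * δ⁻¹ * (δ' * δ') * (δ' * δ')⁻¹) :=
        (he ▸ hk p hp).mul_right h2.inv_right
      rw [mul_inv_cancel_right] at h3
      simpa using h3.inv_right
    obtain ⟨m, hm⟩ := hgo
    refine hg1 (hodd δ hgD ⟨m, hm⟩ fun p hp => ?_)
    have hpm : δ = (δ * δ) ^ (m + 1) := by
      rw [← pow_two, ← pow_mul, show 2 * (m + 1) = orderOf δ + 1 by omega, pow_succ,
        pow_orderOf_eq_one, one_mul]
    rw [hpm]
    exact ((hcen p hp).pow_right (m + 1)).eq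
  -- hence every element of `D` has a lift normalizing `K`
  set U := Im (Cz z) (H ⊓ normalizer (K : Set G))
  have hDU : D ≤ U := by
    set D' := Subgroup.closure {x | x ∈ D ∧ (orderOf x).Coprime 2}
    have hD'U : D' ≤ U := by
      rw [Subgroup.closure_le]
      rintro δ ⟨hd, ho⟩
      by_cases h1 : δ = 1
      · rw [h1]; exact one_mem _
      obtain ⟨g, hg, rfl⟩ := hlift δ hd
      exact img_mem_Im ⟨hg, hkey g hg hd h1 (Nat.coprime_two_right.mp ho)⟩ hg.1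
    refine (le_of_forall_coprime_mem_of_perfect (p := 2) (isPerfect_iff.mp hq.1) ?_
      fun x hx hxo => Subgroup.subset_closure
        (show x ∈ {x | x ∈ D ∧ (orderOf x).Coprime 2} from ⟨hx, hxo⟩)).trans hD'U
    refine le_normalizer_closure_iff.mpr ?_
    rintro a ha x ⟨hx, hxo⟩
    exact Subgroup.subset_closure ⟨mul_mem (mul_mem ha hx) (inv_mem ha), by rwa [orderOf_conj_eq']⟩
  obtain ⟨g, ⟨hgH, hgK⟩, hgA, hgq⟩ := mem_Im.mp (hDU hδ)
  set d := y⁻¹ * (g⁻¹ * y * g)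
  have hdK : d ∈ K := mul_mem (inv_mem hyK) (by
    have := (mem_normalizer_iff.mp (inv_mem hgK) y).mp hyK
    rwa [inv_inv] at this)
  have hdA : d ∈ (Cz z) := mul_mem (inv_mem hyz) (mul_mem (mul_mem (inv_mem hgA) hyz) hgA)
  set δ' := Y⁻¹ * δ0 * Y with hδ'
  have hdq : img (Cz z) d = δ'⁻¹ * δ0 := by rw [img_comm_elt hyz hgA, hgq]
  obtain ⟨p, hp, hne⟩ := hδne
  have hp' : Commute p δ' := hcomm p hp δ0 hδ
  have h1 : img (Cz z) d ≠ 1 := fun e => by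
    rw [hdq, inv_mul_eq_one] at e
    exact hne (e ▸ hp'.eq)
  have h2 : img (Cz z) d * img (Cz z) d = 1 := by
    rw [hdq]
    calc δ'⁻¹ * δ0 * (δ'⁻¹ * δ0) = δ'⁻¹ * (δ0 * δ'⁻¹) * δ0 := by group
      _ = δ'⁻¹ * (δ'⁻¹ * δ0) * δ0 := by rw [(hcomm δ0 hδ δ0 hδ).inv_right.eq]
      _ = (δ' * δ')⁻¹ * (δ0 * δ0) := by group
      _ = 1 := by
        rw [show δ' * δ' = Y⁻¹ * (δ0 * δ0) * Y by rw [hδ']; group, hδfix, inv_mul_cancel]
  have h3 := invol_eq_w hK hwne hdK hdA h2 h1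
  have h4 : Commute p (img (Cz z) d) := h3 ▸ hWfix p hp
  rw [hdq] at h4
  have h5 := hp'.mul_right h4
  rw [mul_inv_cancel_left] at h5
  exact hne h5.eq
where
  orderOf_conj_eq' {X : Type _} [Group X] {a x : X} : orderOf (a * x * a⁻¹) = orderOf x :=
    (MulAut.conj a).orderOf_eq x

end CfsgLib.Invol68
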