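import Cfsg.Agent.Lib.Invol68.Moves

/-!
A 2-element of order at least four of `K` centralizing `z` normalizes `J`: the cases other than order four
with `w` normalizing `J`.
-/

set_option autoImplicit false

namespace CfsgLib.Invol68

open Subgroup CfsgLib.Components

variable {G : Type*} [Group G] [Finite G] {J K : Subgroup G} {z w y : G}

theorem w_mem_Cz {f : ℕ} (hy : y ^ 2 ^ f = w) (hyz : y ∈ Cz z) : w ∈ Cz z := hy ▸ pow_mem hyz _

/-- Order four, `w` does not normalize `J`. -/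
theorem four_not_moves (hJ : Intr J z) (hK : Intr K w) (hzw : z ≠ w) (hyK : y ∈ K) (hyy : y * y = w)
    (hyz : y ∈ Cz z) : w ∈ normalizer (J : Set G) := by
  by_contra hwJ
  have hwz : w ∈ Cz z := hyy ▸ mul_mem hyz hyz
  have hww : w * w = 1 := hK.zz
  have hwne : img (Cz z) w ≠ 1 := fun h =>
    hK.z_ne (eq_one_of_img_eq_one (n := 1) hwz (by rw [pow_one, pow_two, hww]) h)
  set W := img (Cz z) w with hW
  set Y := img (Cz z) y with hY
  set c := img (Cz z) z with hc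
  have hP := hJ.uc
  have hWW : W * W = 1 := by rw [hW, ← img_mul hwz hwz, hww, img_one]
  have hYY : Y * Y = W := by rw [hY, ← img_mul hyz hyz, hyy]
  have hfix : ∀ x, x ∈ Cz z → (img (Cz z) x)⁻¹ * c * img (Cz z) x = c := fun x hx => by
    rw [hc, ← img_conj (self_mem_Cz z) hx, mem_Cz_iff_conj.mp hx]
  have hJw : J ≠ cjS w J := fun e => hwJ (cjS_eq_self_iff.mp e.symm)
  have hcomm : ∀ p ∈ Im (Cz z) J, ∀ q ∈ Im (Cz z) J, Commute p (W⁻¹ * q * W) := fun p hp q hq =>
    hJ.comm_of_ne (hJ.conj_same hwz) hJw hp (Intr.mem_Im_cjS hwz hq)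
  have hy : y ∉ normalizer (J : Set G) := fun h => hwJ (hyy ▸ mul_mem h h)
  have hwy : w * y ∉ normalizer (J : Set G) := fun h => hwJ (by
    have e : w * y * (w * y) = w := by
      rw [show w * y = y * y * y by rw [hyy]]
      calc y * y * y * (y * y * y) = y * y * (y * y) * (y * y) := by group
        _ = w := by rw [hyy, hww, one_mul]
    exact e ▸ mul_mem h h)
  have hwyz : w * y ∈ Cz z := mul_mem hwz hyz
  have hJy : J ≠ cjS y J := fun e => hy (cjS_eq_self_iff.mp e.symm)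
  have hJwy : J ≠ cjS (w * y) J := fun e => hwy (cjS_eq_self_iff.mp e.symm)
  set D := (UC.diagHom hcomm).range
  obtain ⟨a, ha⟩ := hP.exists_four
  refine swap_false hK hyK hyy hyz hwne (hP.diag_quasisimple (hfix w hwz) hcomm)
    (UC.diag_le_centralizer hWW hcomm) (hP.diag_subnormal hWW hcomm)
    (fun δ hd _ hcen => hP.diag_central (hfix w hwz) hcomm hd hcen) ?_
    (δ0 := a * (W⁻¹ * a * W)) (UC.mem_diag.mpr ⟨a, ha.1, rfl⟩) ?_ ?_ ?_
  · intro d hd b hb
    obtain ⟨x, hx, rfl⟩ := UC.mem_diag.mp hd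
    obtain ⟨x', hx', rfl⟩ := UC.mem_diag.mp hb
    -- an element fixed by `W` commuting with the component
    set B := (img (Cz z) y)⁻¹ * (x' * (W⁻¹ * x' * W)) * img (Cz z) y
    have hB : ∀ p ∈ Im (Cz z) J, Commute p B := fun p hp => by
      have h1 : Commute p (Y⁻¹ * x' * Y) :=
        hJ.comm_of_ne (hJ.conj_same hyz) hJy hp (Intr.mem_Im_cjS hyz hx')
      have h2 : Commute p ((img (Cz z) (w * y))⁻¹ * x' * img (Cz z) (w * y)) :=
        hJ.comm_of_ne (hJ.conj_same hwyz) hJwy hp (Intr.mem_Im_cjS hwyz hx')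
      have e : B = (Y⁻¹ * x' * Y) * ((img (Cz z) (w * y))⁻¹ * x' * img (Cz z) (w * y)) := by
        rw [img_mul hwz hyz]
        simp only [B, ← hY, ← hW]
        group
      rw [e]
      exact h1.mul_right h2
    have hWB : Commute W B := by
      have h1 : Commute W (x' * (W⁻¹ * x' * W)) :=
        (mem_centralizer_singleton_iff.mp (UC.diag_le_centralizer hWW hcomm (UC.mem_diag.mpr ⟨x', hx', rfl⟩))).symm
      have h2 : Commute W Y := by rw [← hYY]; exact (Commute.refl Y).mul_left (Commute.refl Y)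
      exact (h2.inv_right.mul_right h1).mul_right h2
    have h2 : Commute (W⁻¹ * x * W) B := (hWB.inv_left.mul_left (hB x hx)).mul_left hWB
    exact (hB x hx).mul_left h2
  · exact pow_four_eq_one (hP.diag_four (hfix w hwz) hcomm ha).1 (one_mul 1)
  · by_contra hcen
    push Not at hcen
    exact (hP.diag_four (hfix w hwz) hcomm ha).2
      (hP.diag_central (hfix w hwz) hcomm (UC.mem_diag.mpr ⟨a, ha.1, rfl⟩) hcen)
  · rw [(hP.diag_four (hfix w hwz) hcomm ha).1, mul_one, inv_mul_cancel]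

/-- Order at least eight. -/
theorem eight_normalizes (hJ : Intr J z) (hK : Intr K w) (hzw : z ≠ w) {f : ℕ} (hf : 1 ≤ f)
    (hyK : y ∈ K) (hy : y ^ 2 ^ (f + 1) = w) (hyz : y ∈ Cz z)
    (hy2 : y * y ∈ normalizer (J : Set G)) : y ∈ normalizer (J : Set G) := by
  by_contra hyJ
  have hwz : w ∈ Cz z := w_mem_Cz hy hyz
  have hww : w * w = 1 := hK.zz
  set W := img (Cz z) w with hW
  set Y := img (Cz z) y with hY
  set c := img (Cz z) z with hc
  set t := Y * Y with ht
  set P := Im (Cz z) J with hPdef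
  have hP : UC P c := hJ.uc
  have hwne : W ≠ 1 := fun h =>
    hK.z_ne (eq_one_of_img_eq_one (n := 1) hwz (by rw [pow_one, pow_two, hww]) h)
  have hWc : W ≠ c := img_w_ne hJ.zz hww hwz hzw
  have htW : t ^ 2 ^ f = W := by
    rw [ht, ← pow_two, ← pow_mul, ← pow_succ', hY, ← img_pow hyz, hy]
  have ht2 : t ^ 2 ^ (f + 1) = 1 := by
    rw [pow_succ, pow_mul, htW, hW, ← img_pow hwz, pow_two, hww, img_one]
  have htN : t ∈ normalizer (P : Set (OQ (Cz z))) := by
    rw [ht, hY, ← img_mul hyz hyz]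
    exact Intr.img_mem_normalizer (mul_mem hyz hyz) hy2
  have hWN : W ∈ normalizer (P : Set (OQ (Cz z))) := htW ▸ pow_mem htN _
  have hcY : Y⁻¹ * c * Y = c := by
    rw [hY, hc, ← img_conj (self_mem_Cz z) hyz, mem_Cz_iff_conj.mp hyz]
  have hcY' : Commute c Y := by
    show c * Y = Y * c
    conv_rhs => rw [← hcY]
    group
  have hJy : J ≠ cjS y J := fun e => hyJ (cjS_eq_self_iff.mp e.symm)
  have hJ2 := hJ.conj_same hyz
  have hP2 : ∀ {x}, x ∈ P → Y⁻¹ * x * Y ∈ Im (Cz z) (cjS y J) := fun {x} hx =>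
    Intr.mem_Im_cjS hyz hx
  have hPY : ∀ {x x'}, x ∈ P → x' ∈ P → Commute x (Y⁻¹ * x' * Y) := fun {x x'} hx hx' =>
    hJ.comm_of_ne hJ2 hJy hx (hP2 hx')
  have hint : ∀ {x x'}, x ∈ P → x' ∈ P → x = Y⁻¹ * x' * Y → x = 1 ∨ x = c := fun {x x'} hx hx' e =>
    hJ.inter_of_ne hJ2 hJy hx (e ▸ hP2 hx')
  -- fixed modulo `c` by `t` implies centralized by `W`
  have hmod : ∀ x ∈ P, (t⁻¹ * x * t = x ∨ t⁻¹ * x * t = x * c) → W⁻¹ * x * W = x := by
    intro x hx h
    have h2 : Commute x (t * t) := by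
      have e : t⁻¹ * (t⁻¹ * x * t) * t = x := by
        rcases h with e | e
        · rw [e, e]
        · rw [e, show t⁻¹ * (x * c) * t = (t⁻¹ * x * t) * (t⁻¹ * c * t) by group, e, hP.c_fix htN,
            mul_assoc, hP.cc, mul_one]
      show x * (t * t) = t * t * x
      conv_rhs => rw [← e]
      group
    have h3 : Commute x W := by
      rw [← htW, show f = (f - 1) + 1 by omega, pow_succ', pow_mul, pow_two]
      exact h2.pow_right _
    rw [mul_assoc, h3.eq, inv_mul_cancel_left]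
  obtain ⟨b, hb, hbmod⟩ := hP.exists_fixed_mod htN ht2
  have hbW := hmod b hb.1 hbmod
  have hWcomm : ∀ {x}, W⁻¹ * x * W = x → Commute x W := fun {x} e => by
    show x * W = W * x
    conv_rhs => rw [← e]
    group
  obtain ⟨g, hgz, hgw, hgq⟩ := exists_lift_centralizer hwz hww (hWcomm hbW)
  set B2 := Y⁻¹ * b * Y with hB2
  have hcb : Commute b B2 := hPY hb.1 hb.1
  set d := y⁻¹ * (g⁻¹ * y * g) with hddef
  have hdz : d ∈ Cz z := mul_mem (inv_mem hyz) (mul_mem (mul_mem (inv_mem hgz) hyz) hgz)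
  have hdw : d ∈ Cz w :=
    mul_mem (inv_mem (hK.le hyK)) (mul_mem (mul_mem (inv_mem hgw) (hK.le hyK)) hgw)
  have hdq : img (Cz z) d = B2⁻¹ * b := by rw [hddef, img_comm_elt hyz hgz, hgq]
  have hd2 : img (Cz z) d * img (Cz z) d = 1 := by
    rw [hdq]
    calc B2⁻¹ * b * (B2⁻¹ * b) = B2⁻¹ * (b * B2⁻¹) * b := by group
      _ = B2⁻¹ * (B2⁻¹ * b) * b := by rw [hcb.inv_right.eq]
      _ = (B2 * B2)⁻¹ * (b * b) := by group
      _ = 1 := by
        rw [show B2 * B2 = Y⁻¹ * (b * b) * Y by rw [hB2]; group, hb.2, hcY, inv_mul_cancel]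
  have hd1 : img (Cz z) d ≠ 1 := fun e => by
    rw [hdq, inv_mul_eq_one] at e
    exact (hint hb.1 hb.1 e.symm).elim (hP.four_ne hb).1 (hP.four_ne hb).2
  have hgK : g ∈ normalizer (K : Set G) := by
    by_contra hgK
    obtain ⟨-, h1, h2, -⟩ := moves_data hK hyK hy hgw hgK
    refine h2 ?_
    have h3 := img_pow_eq_one_of_img hdw hdz h1 (j := 1) (by rw [pow_one, pow_two]; exact hd2)
    rw [← hddef, show f = (f - 1) + 1 by omega, pow_succ', pow_mul]
    rw [pow_one] at h3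
    rw [h3, one_pow]
  have hdK : d ∈ K := mul_mem (inv_mem hyK) (by
    have := (mem_normalizer_iff.mp (inv_mem hgK) y).mp hyK
    rwa [inv_inv] at this)
  have hWd : B2⁻¹ * b = W := by rw [← hdq]; exact invol_eq_w hK hwne hdK hdz hd2 hd1
  -- `t` fixes `b`
  have hbt : t⁻¹ * b * t = b := by
    refine hbmod.resolve_right fun e => hP.c_ne ?_
    have hWY : Commute W Y := by
      rw [← htW, ht]
      exact (((Commute.refl Y).mul_left (Commute.refl Y)).pow_left _)
    have e1 : (b * c)⁻¹ * B2 = B2⁻¹ * b := by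
      calc (b * c)⁻¹ * B2 = (t⁻¹ * b * t)⁻¹ * B2 := by rw [e]
        _ = Y⁻¹ * (B2⁻¹ * b) * Y := by rw [hB2, ht]; group
        _ = Y⁻¹ * W * Y := by rw [hWd]
        _ = B2⁻¹ * b := by rw [mul_assoc, hWY.eq, inv_mul_cancel_left, hWd]
    have e2 : (b * c)⁻¹ = b := by
      rw [← hP.four_inv hb, inv_inv]
    rw [e2] at e1
    have e3 : b = c * b := by
      calc b = B2 * (B2⁻¹ * b) := by group
        _ = B2 * (b * B2) := by rw [e1]
        _ = (B2 * B2) * b := by rw [hcb.eq]; group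
        _ = c * b := by rw [show B2 * B2 = Y⁻¹ * (b * b) * Y by rw [hB2]; group, hb.2, hcY]
    exact mul_eq_right.mp e3.symm
  obtain ⟨b', hb', hanti, k, hk⟩ := hP.exists_two_inverting htN ht2 hb hbt
  set B' := Y⁻¹ * b' * Y with hB'
  have hWb' : W⁻¹ * b' * W = b' * c := by
    have hc1 : Commute b' B2 := hPY hb'.1 hb.1
    rw [← hWd]
    calc (B2⁻¹ * b)⁻¹ * b' * (B2⁻¹ * b) = b⁻¹ * (B2 * b' * B2⁻¹) * b := by group
      _ = b⁻¹ * b' * b := by rw [← hc1.eq, mul_inv_cancel_right]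
      _ = b' * c := hP.anti_conj_eq hb hb'.1 hanti
  have hb'ne : b' * c ≠ b' := fun e => hP.c_ne (mul_eq_left.mp e)
  have hWB' : W⁻¹ * B' * W = B' * c := by
    have hWY : Commute W Y := by
      rw [← htW, ht]
      exact (((Commute.refl Y).mul_left (Commute.refl Y)).pow_left _)
    calc W⁻¹ * B' * W = (W⁻¹ * Y⁻¹) * b' * (Y * W) := by rw [hB']; group
      _ = (Y⁻¹ * W⁻¹) * b' * (W * Y) := by rw [hWY.inv_inv.eq, hWY.eq]
      _ = Y⁻¹ * (b' * c) * Y := by rw [← hWb']; group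
      _ = B' * (Y⁻¹ * c * Y) := by rw [hB']; group
      _ = B' * c := by rw [hcY]
  set U := b' * B' with hU
  have hUW : W⁻¹ * U * W = U := by
    calc W⁻¹ * U * W = (W⁻¹ * b' * W) * (W⁻¹ * B' * W) := by rw [hU]; group
      _ = b' * (c * B') * c := by rw [hWb', hWB']; group
      _ = b' * (B' * c) * c := by
        have hcB : Commute c B' := (hcY'.inv_right.mul_right (hP.c_comm hb'.1).symm).mul_right hcY'
        rw [hcB.eq]
      _ = U := by rw [hU, mul_assoc b', mul_assoc B', hP.cc, mul_one]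
  obtain ⟨g2, hg2z, hg2w, hg2q⟩ := exists_lift_centralizer hwz hww (hWcomm hUW)
  set d2 := y⁻¹ * (g2⁻¹ * y * g2) with hd2def
  have hd2z : d2 ∈ Cz z := mul_mem (inv_mem hyz) (mul_mem (mul_mem (inv_mem hg2z) hyz) hg2z)
  set ε := t⁻¹ * b'⁻¹ * t * b' with hε
  have hεP : ε ∈ P := by
    refine mul_mem ?_ hb'.1
    have := (mem_normalizer_iff.mp (inv_mem htN) _).mp (inv_mem hb'.1)
    rwa [inv_inv] at this
  have hd2q : img (Cz z) d2 = ε := by
    have hc1 : Commute b' B' := hPY hb'.1 hb'.1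
    rw [hd2def, img_comm_elt hyz hg2z, hg2q, ← hY]
    calc (Y⁻¹ * U * Y)⁻¹ * U = (t⁻¹ * b'⁻¹ * t) * (B'⁻¹ * (b' * B')) := by rw [hU, ht, hB']; group
      _ = ε := by rw [hc1.eq, inv_mul_cancel_left]
  have hε1 : ε ≠ 1 := fun e => by
    have e' : t⁻¹ * b' * t = b' := by
      calc t⁻¹ * b' * t = (ε * b'⁻¹)⁻¹ := by rw [hε]; group
        _ = b' := by rw [e, one_mul, inv_inv]
    exact hb'ne (hWb'.symm.trans (hmod b' hb'.1 (Or.inl e')))
  have hεc : ε ≠ c := fun e => by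
    have e' : t⁻¹ * b' * t = b' * c := by
      calc t⁻¹ * b' * t = (ε * b'⁻¹)⁻¹ := by rw [hε]; group
        _ = b' * c := by rw [e, mul_inv_rev, inv_inv, hP.c_inv]
    exact hb'ne (hWb'.symm.trans (hmod b' hb'.1 (Or.inr e')))
  by_cases hg2K : g2 ∈ normalizer (K : Set G)
  · have hd2K : d2 ∈ K := mul_mem (inv_mem hyK) (by
      have := (mem_normalizer_iff.mp (inv_mem hg2K) y).mp hyK
      rwa [inv_inv] at this)
    obtain ⟨j, hj⟩ := exists_pow_w hK (n := k) hd2K hd2z (hd2q.symm ▸ hk) (hd2q.symm ▸ hε1)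
    rw [hd2q] at hj
    have hWP : W ∈ P := by rw [hW, ← hj]; exact pow_mem hεP _
    rcases hP.uniq W hWP (by rw [hW, ← img_mul hwz hwz, hww, img_one]) with e | e
    · exact hwne e
    · exact hWc e
  · obtain ⟨-, -, -, hcore⟩ := moves_data hK hyK hy hg2w hg2K
    set kk := d2⁻¹ * y⁻¹ * d2 * y
    have hkz : kk ∈ Cz z := mul_mem (mul_mem (mul_mem (inv_mem hd2z) (inv_mem hyz)) hd2z) hyz
    set ε2 := Y⁻¹ * ε * Y
    have hkq : img (Cz z) kk = ε⁻¹ * ε2 := by
      rw [img_mul (mul_mem (mul_mem (inv_mem hd2z) (inv_mem hyz)) hd2z) hyz,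
        img_mul (mul_mem (inv_mem hd2z) (inv_mem hyz)) hd2z, img_mul (inv_mem hd2z) (inv_mem hyz),
        img_inv hd2z, img_inv hyz, hd2q, ← hY]
      simp only [ε2]
      group
    have hpow : img (Cz z) kk ^ 2 ^ k = 1 := by
      rw [hkq, (hPY hεP hεP).inv_left.mul_pow, inv_pow, hk, inv_one, one_mul]
      have := conj_pow (i := 2 ^ k) (a := Y⁻¹) (b := ε)
      rw [inv_inv] at this
      rw [this, hk]
      group
    obtain ⟨m, hm, hkm⟩ := exists_odd_pow_of_mem_core hcore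
    have h1 : img (Cz z) kk = 1 :=
      eq_one_of_odd_pow hpow hm (by rw [← img_pow hkz, hkm, img_one])
    rw [hkq, inv_mul_eq_one] at h1
    exact (hint hεP hεP h1).elim hε1 hεc

end CfsgLib.Invol68
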