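import Cfsg.Agent.Lib.Invol68.PartOne

/-!
A 2-element of order at least four of `K` centralizing `z` normalizes `J`.
-/

set_option autoImplicit false

namespace CfsgLib.Invol68

open Subgroup CfsgLib.Components

variable {G : Type*} [Group G] [Finite G] {J K : Subgroup G} {z w y u : G}

/-- An involution `u` with `u^y = z u` modulo `O(C(z))` moves `K`, and then `z = y⁻¹ y^u` modulo
`O(C(w))`. -/
theorem twisted_involution (hJ : Intr J z) (hK : Intr K w) (hzw : z ≠ w) (hyK : y ∈ K)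
    (hyy : y * y = w) (hyz : y ∈ Cz z) (huz : u ∈ Cz z) (huw : u ∈ Cz w) (huu : u * u = 1)
    (hU : (img (Cz z) y)⁻¹ * img (Cz z) u * img (Cz z) y = img (Cz z) z * img (Cz z) u) :
    u ∉ normalizer (K : Set G) ∧ img (Cz w) z = (img (Cz w) y)⁻¹ * img (Cz w) (u⁻¹ * y * u) := by
  have hwz : w ∈ Cz z := hyy ▸ mul_mem hyz hyz
  have hzw' : z ∈ Cz w := mem_Cz_comm.mp hwz
  have hyw : y ∈ Cz w := hK.le hyK
  have hww : w * w = 1 := hK.zz
  set d := y⁻¹ * (u⁻¹ * y * u) with hd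
  have hdz : d ∈ Cz z := mul_mem (inv_mem hyz) (mul_mem (mul_mem (inv_mem huz) hyz) huz)
  have hdw : d ∈ Cz w := mul_mem (inv_mem hyw) (mul_mem (mul_mem (inv_mem huw) hyw) huw)
  have hc : Commute (img (Cz z) u) (img (Cz z) z) := by
    show img (Cz z) u * img (Cz z) z = img (Cz z) z * img (Cz z) u
    rw [← img_mul huz (self_mem_Cz z), ← img_mul (self_mem_Cz z) huz, mem_Cz.mp huz]
  have hdq : img (Cz z) d = img (Cz z) z := by
    rw [hd, img_comm_elt hyz huz, hU, mul_inv_rev, mul_assoc, ← img_inv (self_mem_Cz z), hJ.z_inv,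
      ← hc.eq, inv_mul_cancel_left]
  have hcne := hJ.img_z_ne
  have hcc : img (Cz z) z * img (Cz z) z = 1 := hJ.uc.cc
  have huK : u ∉ normalizer (K : Set G) := by
    intro huK
    have hdK : d ∈ K := mul_mem (inv_mem hyK) (by
      have := (mem_normalizer_iff.mp (inv_mem huK) y).mp hyK
      rwa [inv_inv] at this)
    have hwne : img (Cz z) w ≠ 1 := fun h =>
      hK.z_ne (eq_one_of_img_eq_one (n := 1) hwz (by rw [pow_one, pow_two, hww]) h)
    have := invol_eq_w hK hwne hdK hdz (by rw [hdq, hcc]) (by rw [hdq]; exact hcne)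
    exact img_w_ne hJ.zz hww hwz hzw (this.symm.trans hdq)
  refine ⟨huK, ?_⟩
  obtain ⟨-, h2, -, -⟩ := moves_data hK (f := 0) hyK (by simpa [pow_two] using hyy) huw huK
  rw [← hd] at h2
  set k := z⁻¹ * d with hk
  have hkw : k ∈ Cz w := mul_mem (inv_mem hzw') hdw
  have hkz : k ∈ core (Cz z) :=
    (img_eq_iff (self_mem_Cz z) hdz).mp hdq.symm
  have hzk : Commute z k := (mem_Cz.mp (core_le hkz)).symm
  have hk2 : img (Cz w) k ^ 2 ^ 1 = 1 := by
    have hdzk : d = z * k := by rw [hk]; group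
    have : img (Cz w) k * img (Cz w) k = img (Cz w) d * img (Cz w) d := by
      rw [← img_mul hkw hkw, ← img_mul hdw hdw]
      congr 1
      rw [hdzk]
      calc k * k = (z * z) * (k * k) := by rw [hJ.zz, one_mul]
        _ = z * (z * k) * k := by group
        _ = z * (k * z) * k := by rw [hzk.eq]
        _ = z * k * (z * k) := by group
    rw [pow_one, pow_two, this, ← pow_two]
    simpa using h2
  obtain ⟨m, hm, hkm⟩ := exists_odd_pow_of_mem_core hkz
  have hk1 : img (Cz w) k = 1 :=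
    eq_one_of_odd_pow hk2 hm (by rw [← img_pow hkw, hkm, img_one])
  rw [hk, img_mul (inv_mem hzw') hdw, img_inv hzw', inv_mul_eq_one] at hk1
  rw [hk1, hd, img_mul (inv_mem hyw) (mul_mem (mul_mem (inv_mem huw) hyw) huw), img_inv hyw]

/-- The twisted involution attached to an element of order four inverted by `w`. -/
theorem twisted_image (hJ : Intr J z) (hyz : y ∈ Cz z) (hyy : y * y = w)
    (hne : J ≠ cjS y J) {b ζ : OQ (Cz z)} (hb : Four (Im (Cz z) J) (img (Cz z) z) b)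
    (hbW : (img (Cz z) w)⁻¹ * b * img (Cz z) w = b * img (Cz z) z)
    (hζ : ζ = 1 ∨ ζ = img (Cz z) z) :
    let U := b * ((img (Cz z) y)⁻¹ * b * img (Cz z) y) * ζ
    U * U = 1 ∧ Commute U (img (Cz z) w) ∧
      (img (Cz z) y)⁻¹ * U * img (Cz z) y = img (Cz z) z * U := by
  intro U
  set c := img (Cz z) z with hc
  set Y := img (Cz z) y with hY
  set W := img (Cz z) w with hW
  have hP := hJ.uc
  have hYY : Y * Y = W := by rw [hY, ← img_mul hyz hyz, hyy]
  set B := Y⁻¹ * b * Y with hB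
  have hcen : ∀ x ∈ Cz z, Commute c (img (Cz z) x) := fun x hx => by
    show c * img (Cz z) x = img (Cz z) x * c
    rw [hc, ← img_mul (self_mem_Cz z) hx, ← img_mul hx (self_mem_Cz z), mem_Cz.mp hx]
  have hwz : w ∈ Cz z := hyy ▸ mul_mem hyz hyz
  have hcY : Commute c Y := hcen y hyz
  have hcW : Commute c W := hcen w hwz
  have hcb : Commute c b := (hP.c_comm hb.1).symm
  have hcB : Commute c B := (hcY.inv_right.mul_right hcb).mul_right hcY
  have hbB : Commute b B :=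
    hJ.comm_of_ne (hJ.conj_same hyz) hne hb.1 (Intr.mem_Im_cjS hyz hb.1)
  have hζ2 : ∀ x, Commute c x → Commute ζ x := fun x hx => by
    rcases hζ with rfl | rfl
    · exact Commute.one_left x
    · exact hx
  have hζζ : ζ * ζ = 1 := by
    rcases hζ with rfl | rfl
    · exact one_mul 1
    · exact hP.cc
  have hBB : B * B = c := by
    calc B * B = Y⁻¹ * (b * b) * Y := by rw [hB]; group
      _ = c := by rw [hb.2, mul_assoc, hcY.eq, inv_mul_cancel_left]
  have hWB : W⁻¹ * B * W = B * c := by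
    have hWY : Commute W Y := by rw [← hYY]; exact (Commute.refl Y).mul_left (Commute.refl Y)
    calc W⁻¹ * B * W = (W⁻¹ * Y⁻¹) * b * (Y * W) := by rw [hB]; group
      _ = (Y⁻¹ * W⁻¹) * b * (W * Y) := by rw [hWY.inv_inv.eq, hWY.eq]
      _ = Y⁻¹ * (W⁻¹ * b * W) * Y := by group
      _ = Y⁻¹ * b * (c * Y) := by rw [hbW]; group
      _ = B * c := by rw [hcY.eq, hB]; group
  refine ⟨?_, ?_, ?_⟩
  · show b * B * ζ * (b * B * ζ) = 1
    calc b * B * ζ * (b * B * ζ) = b * B * (ζ * (b * B)) * ζ := by group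
      _ = b * B * (b * B) * (ζ * ζ) := by rw [(hζ2 _ (hcb.mul_right hcB)).eq]; group
      _ = b * (B * b) * B := by rw [hζζ]; group
      _ = (b * b) * (B * B) := by rw [← hbB.eq]; group
      _ = 1 := by rw [hb.2, hBB, hP.cc]
  · have h : W⁻¹ * U * W = U := by
      calc W⁻¹ * (b * B * ζ) * W = (W⁻¹ * b * W) * (W⁻¹ * B * W) * (W⁻¹ * (ζ * W)) := by group
        _ = b * (c * B) * c * ζ := by rw [hbW, hWB, (hζ2 W hcW).eq]; group
        _ = b * B * (c * c) * ζ := by rw [hcB.eq]; group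
        _ = U := by rw [hP.cc, mul_one]
    show U * W = W * U
    conv_rhs => rw [← h]
    group
  · calc Y⁻¹ * (b * B * ζ) * Y = B * ((Y * Y)⁻¹ * b * (Y * Y)) * (Y⁻¹ * (ζ * Y)) := by rw [hB]; group
      _ = B * (b * c) * ζ := by rw [hYY, hbW, (hζ2 Y hcY).eq]; group
      _ = c * (b * B * ζ) := by
        rw [← mul_assoc, ← mul_assoc, ← mul_assoc c b B, ← hbB.eq, (hcb.mul_right hcB).eq.symm]
        group

/-- Order four, `w` normalizing `J`. -/
theorem four_normalizes (hJ : Intr J z) (hK : Intr K w) (hzw : z ≠ w) (hyK : y ∈ K)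
    (hyy : y * y = w) (hyz : y ∈ Cz z) (hwJ : w ∈ normalizer (J : Set G)) :
    y ∈ normalizer (J : Set G) := by
  by_contra hyJ
  have hwz : w ∈ Cz z := hyy ▸ mul_mem hyz hyz
  have hzwm : z ∈ Cz w := mem_Cz_comm.mp hwz
  have hyw : y ∈ Cz w := hK.le hyK
  have hww : w * w = 1 := hK.zz
  have hzz : z * z = 1 := hJ.zz
  have hwne : img (Cz z) w ≠ 1 := fun h =>
    hK.z_ne (eq_one_of_img_eq_one (n := 1) hwz (by rw [pow_one, pow_two, hww]) h)
  set c := img (Cz z) z with hc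
  set Y := img (Cz z) y with hY
  set W := img (Cz z) w with hW
  set P := Im (Cz z) J with hPdef
  have hP : UC P c := hJ.uc
  have hWN : W ∈ normalizer (P : Set (OQ (Cz z))) := Intr.img_mem_normalizer hwz hwJ
  have hWW : W * W = 1 := by rw [hW, ← img_mul hwz hwz, hww, img_one]
  have hYY : Y * Y = W := by rw [hY, ← img_mul hyz hyz, hyy]
  have hJy : J ≠ cjS y J := fun e => hyJ (cjS_eq_self_iff.mp e.symm)
  have hJ2 := hJ.conj_same hyz
  have hcY : Y⁻¹ * c * Y = c := by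
    rw [hY, hc, ← img_conj (self_mem_Cz z) hyz, mem_Cz_iff_conj.mp hyz]
  -- `w` does not centralize the component
  have hne : ¬ ∀ p ∈ P, p * W = W * p := by
    intro hcen
    obtain ⟨a, ha⟩ := hP.exists_four
    refine swap_false hK hyK hyy hyz hwne hP.comp.2
      (fun p hp => mem_centralizer_singleton_iff.mpr (hcen p hp)) hP.comp.1.subgroupOf ?_ ?_
      (δ0 := a) ha.1 (pow_four_eq_one ha.2 hP.cc) ?_ ?_
    · intro δ hδ ho hcent
      rcases hP.cen δ hδ hcent with e | e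
      · exact e
      · rw [e, hP.ord] at ho
        exact absurd ho (by decide)
    · exact fun x hx x' hx' => hJ.comm_of_ne hJ2 hJy hx (Intr.mem_Im_cjS hyz hx')
    · by_contra h
      push Not at h
      exact hP.four_not_central ha h
    · rw [ha.2]
      exact hcY
  obtain ⟨b, hb, hbW⟩ := hP.exists_inverted hWN hWW hne
  obtain ⟨hUU, hUW, hUY⟩ := twisted_image hJ hyz hyy hJy hb hbW (ζ := 1) (Or.inl rfl)
  obtain ⟨u, huz, huw, hu1, huq⟩ :=
    exists_two_lift_centralizer hwz hww hUW (n := 1) (by rw [pow_one, pow_two]; exact hUU)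
  rw [pow_one, pow_two] at hu1
  obtain ⟨huK, hZ⟩ := twisted_involution hJ hK hzw hyK hyy hyz huz huw hu1 (by rw [huq]; exact hUY)
  set R := Im (Cz w) K with hR
  set cw := img (Cz w) w with hcw
  have hRU : UC R cw := hK.uc
  set Yw := img (Cz w) y with hYw
  set Y2 := img (Cz w) (u⁻¹ * y * u) with hY2
  have hy2w : u⁻¹ * y * u ∈ Cz w := mul_mem (mul_mem (inv_mem huw) hyw) huw
  have hK2 := hK.conj_same huw
  have hKu : K ≠ cjS u K := fun e => huK (cjS_eq_self_iff.mp e.symm)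
  have hYfour : Four R cw Yw := ⟨img_mem_Im hyK hyw, by rw [hYw, ← img_mul hyw hyw, hyy]⟩
  -- an element `k` with `z^k = z w`
  obtain ⟨x0, hx0, hanti0⟩ := hRU.exists_inverting hYfour
  set k0 := x0⁻¹ * Yw * x0
  have hk0 : Four R cw k0 := hRU.four_conj hYfour (le_normalizer hx0)
  have hk0Y : k0⁻¹ * Yw * k0 = Yw * cw :=
    hRU.anti_conj_eq hk0 hYfour.1 (hRU.anti_symm hYfour.1 hk0.1 hanti0)
  obtain ⟨k1, hk1K, -, hk1q⟩ := hK.exists_four_lift hk0
  have hk1w : k1 ∈ Cz w := hK.le hk1K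
  have hk1Z : img (Cz w) (k1⁻¹ * z * k1) = img (Cz w) (z * w) := by
    have hcomm : Commute k0 Y2 :=
      hK.comm_of_ne hK2 hKu hk0.1 (img_mem_Im (conj_mem_cjS hyK) hy2w)
    have hcY2 : Commute cw Y2 :=
      hK.comm_of_ne hK2 hKu hRU.mem (img_mem_Im (conj_mem_cjS hyK) hy2w)
    rw [img_conj hzwm hk1w, hk1q, img_mul hzwm (self_mem_Cz w), hZ, ← hcw]
    calc k0⁻¹ * (Yw⁻¹ * Y2) * k0 = (k0⁻¹ * Yw * k0)⁻¹ * (k0⁻¹ * (Y2 * k0)) := by group
      _ = (Yw * cw)⁻¹ * Y2 := by rw [hk0Y, ← hcomm.eq, inv_mul_cancel_left]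
      _ = cw * Yw⁻¹ * Y2 := by rw [mul_inv_rev, hRU.c_inv]
      _ = Yw⁻¹ * (cw * Y2) := by rw [← (hRU.c_comm hYfour.1).inv_left.eq]; group
      _ = Yw⁻¹ * Y2 * cw := by rw [hcY2.eq]; group
  have hzwz : z * w = w * z := mem_Cz.mp hzwm
  have hzwzw : z * w * (z * w) = 1 := by
    calc z * w * (z * w) = z * (w * z) * w := by group
      _ = (z * z) * (w * w) := by rw [← hzwz]; group
      _ = 1 := by rw [hzz, hww, one_mul]
  obtain ⟨o, ho, hoe⟩ := exists_core_conj (mul_mem (mul_mem (inv_mem hk1w) hzwm) hk1w)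
    (mul_mem hzwm (self_mem_Cz w))
    (by
      calc k1⁻¹ * z * k1 * (k1⁻¹ * z * k1) = k1⁻¹ * (z * z) * k1 := by group
        _ = 1 := by rw [hzz]; group) hzwzw hk1Z
  set k := k1 * o with hk
  have hkw : k ∈ Cz w := mul_mem hk1w (core_le ho)
  have hkz : k⁻¹ * z * k = z * w := by rw [← hoe, hk]; group
  -- an element `b'` with `w^b' = w z`
  obtain ⟨b1, hb1J, -, hb1q⟩ := hJ.exists_four_lift hb
  have hb1z : b1 ∈ Cz z := hJ.le hb1J
  have hb1W : img (Cz z) (b1⁻¹ * w * b1) = img (Cz z) (w * z) := by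
    rw [img_conj hwz hb1z, hb1q, img_mul hwz (self_mem_Cz z), ← hW, ← hc]
    have hbb : b = W * (b * c) * W⁻¹ := by rw [← hbW]; group
    have h2 : b * W = W * (b * c) := by
      conv_lhs => rw [hbb]
      group
    calc b⁻¹ * W * b = b⁻¹ * (W * (b * c)) * c⁻¹ := by group
      _ = b⁻¹ * (b * W) * c := by rw [h2, hP.c_inv]
      _ = W * c := by group
  obtain ⟨o', ho', ho'e⟩ := exists_core_conj (mul_mem (mul_mem (inv_mem hb1z) hwz) hb1z)
    (mul_mem hwz (self_mem_Cz z))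
    (by
      calc b1⁻¹ * w * b1 * (b1⁻¹ * w * b1) = b1⁻¹ * (w * w) * b1 := by group
        _ = 1 := by rw [hww]; group) (by rw [← hzwz]; exact hzwzw) hb1W
  set h := b1 * o' * k⁻¹ with hh
  have hkzw : k * (z * w) * k⁻¹ = z := by rw [← hkz]; group
  have hkwk : k * w * k⁻¹ = w := by rw [mem_Cz.mp hkw, mul_inv_cancel_right]
  have hhw : h⁻¹ * w * h = z := by
    calc h⁻¹ * w * h = k * (o'⁻¹ * (b1⁻¹ * w * b1) * o') * k⁻¹ := by rw [hh]; group
      _ = z := by rw [ho'e, ← hzwz, hkzw]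
  have hbz : (b1 * o')⁻¹ * z * (b1 * o') = z :=
    mem_Cz_iff_conj.mp (mul_mem hb1z (core_le ho'))
  have hhz : h⁻¹ * z * h = z * w := by
    calc h⁻¹ * z * h = k * ((b1 * o')⁻¹ * z * (b1 * o')) * k⁻¹ := by rw [hh]; group
      _ = k * (z * w * w) * k⁻¹ := by rw [hbz, mul_assoc z w w, hww, mul_one]
      _ = k * (z * w) * k⁻¹ * (k * w * k⁻¹) := by group
      _ = z * w := by rw [hkzw, hkwk]
  have hhAB : ∀ x, h⁻¹ * x * h ∈ Cz z ↔ x ∈ Cz w := fun x => by
    rw [← hhw]; exact conj_mem_Cz_iff h w x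
  have hzwY : img (Cz w) (z * w) = img (Cz w) (y * (u⁻¹ * y * u)) := by
    have hcY2 : Commute cw Y2 :=
      hK.comm_of_ne hK2 hKu hRU.mem (img_mem_Im (conj_mem_cjS hyK) hy2w)
    rw [img_mul hzwm (self_mem_Cz w), img_mul hyw hy2w, hZ, ← hcw, ← hYw, ← hY2]
    calc Yw⁻¹ * Y2 * cw = Yw⁻¹ * cw * Y2 := by rw [mul_assoc, ← hcY2.eq, ← mul_assoc]
      _ = Yw * Y2 := by rw [← hYfour.2]; group
  have htr := img_conj_congr h hhAB (mul_mem hzwm (self_mem_Cz w)) (mul_mem hyw hy2w) hzwY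
  have e1 : h⁻¹ * (z * w) * h = w := by
    calc h⁻¹ * (z * w) * h = (h⁻¹ * z * h) * (h⁻¹ * w * h) := by group
      _ = w := by rw [hhz, hhw, hzwz, mul_assoc, hzz, mul_one]
  set M1 := cjS h K with hM1
  set M2 := cjS (u * h) K with hM2
  have hM1i : Intr M1 z := hhw ▸ hK.conj h
  have huh : (u * h)⁻¹ * w * (u * h) = z := by
    calc (u * h)⁻¹ * w * (u * h) = h⁻¹ * (u⁻¹ * w * u) * h := by group
      _ = z := by rw [mem_Cz_iff_conj.mp huw, hhw]
  have hM2i : Intr M2 z := huh ▸ hK.conj (u * h)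
  have hM12 : M1 ≠ M2 := fun e => hKu (by
    have := congrArg (cjS h⁻¹) e
    rw [hM1, hM2, ← cjS_mul, ← cjS_mul, mul_inv_cancel, cjS_one, mul_inv_cancel_right] at this
    exact this)
  have hyh : h⁻¹ * y * h ∈ Cz z := (hhAB y).mpr hyw
  have hy2h : (u * h)⁻¹ * y * (u * h) ∈ Cz z := by
    rw [show (u * h)⁻¹ * y * (u * h) = h⁻¹ * (u⁻¹ * y * u) * h by group]
    exact (hhAB _).mpr hy2w
  set a1 := img (Cz z) (h⁻¹ * y * h)
  set a2 := img (Cz z) ((u * h)⁻¹ * y * (u * h))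
  have hWa : W = a1 * a2 := by
    rw [e1] at htr
    rw [hW, htr, ← img_mul hyh hy2h]
    congr 1
    group
  have ha1 : Four (Im (Cz z) M1) c a1 := by
    refine ⟨img_mem_Im (conj_mem_cjS hyK) hyh, ?_⟩
    show a1 * a1 = c
    rw [← img_mul hyh hyh, hc]
    congr 1
    calc h⁻¹ * y * h * (h⁻¹ * y * h) = h⁻¹ * (y * y) * h := by group
      _ = z := by rw [hyy, hhw]
  have ha2 : Four (Im (Cz z) M2) c a2 := by
    refine ⟨img_mem_Im (conj_mem_cjS hyK) hy2h, ?_⟩
    show a2 * a2 = c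
    rw [← img_mul hy2h hy2h, hc]
    congr 1
    calc (u * h)⁻¹ * y * (u * h) * ((u * h)⁻¹ * y * (u * h)) = (u * h)⁻¹ * (y * y) * (u * h) := by group
      _ = z := by rw [hyy, huh]
  -- so `J` and its conjugate are the two components
  have hmem : ∀ L : Subgroup G, Intr L z → (¬ ∀ p ∈ Im (Cz z) L, p * W = W * p) → L = M1 ∨ L = M2 := by
    intro L hL hLne
    by_contra hcon
    push Not at hcon
    refine hLne fun p hp => ?_
    rw [hWa]
    exact ((hL.comm_of_ne hM1i hcon.1 hp ha1.1).mul_right (hL.comm_of_ne hM2i hcon.2 hp ha2.1)).eq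
  have hne2 : ¬ ∀ p ∈ Im (Cz z) (cjS y J), p * W = W * p := by
    intro hall
    refine hne fun p hp => ?_
    have hWY : Commute W Y := by rw [← hYY]; exact (Commute.refl Y).mul_left (Commute.refl Y)
    have h1 := hall _ (Intr.mem_Im_cjS hyz hp)
    rw [← hY] at h1
    calc p * W = Y * ((Y⁻¹ * p * Y) * W) * Y⁻¹ := by
          rw [show Y * (Y⁻¹ * p * Y * W) * Y⁻¹ = p * (Y * (W * Y⁻¹)) by group,
            hWY.inv_right.eq, mul_inv_cancel_left]
      _ = Y * (W * (Y⁻¹ * p * Y)) * Y⁻¹ := by rw [h1]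
      _ = W * p := by
          rw [show Y * (W * (Y⁻¹ * p * Y)) * Y⁻¹ = Y * (W * Y⁻¹) * p by group,
            hWY.inv_right.eq, mul_inv_cancel_left]
  obtain ⟨a, a', ha, ha'mem, ha'4, haa⟩ : ∃ a a', Four P c a ∧ a' ∈ Im (Cz z) (cjS y J) ∧
      Four (Im (Cz z) (cjS y J)) c a' ∧ W = a * a' := by
    rcases hmem J hJ hne with e | e <;> rcases hmem _ hJ2 hne2 with e' | e'
    · exact absurd (e.trans e'.symm) hJy
    · exact ⟨a1, a2, by rw [hPdef, e]; exact ha1, by rw [e']; exact ha2.1, by rw [e']; exact ha2, hWa⟩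
    · refine ⟨a2, a1, by rw [hPdef, e]; exact ha2, by rw [e']; exact ha1.1, by rw [e']; exact ha1, ?_⟩
      rw [hWa]
      exact (hM1i.comm_of_ne hM2i hM12 ha1.1 ha2.1).eq
    · exact absurd (e.trans e'.symm) hJy
  set A' := Y⁻¹ * a * Y with hA'
  have hA'2 : A' ∈ Im (Cz z) (cjS y J) := Intr.mem_Im_cjS hyz ha.1
  have hYa' : Y⁻¹ * a' * Y ∈ P := by
    obtain ⟨p, hp, rfl⟩ := Intr.exists_of_mem_Im_cjS hyz ha'mem
    rw [← hY, show Y⁻¹ * (Y⁻¹ * p * Y) * Y = (Y * Y)⁻¹ * p * (Y * Y) by group, hYY]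
    have := (mem_normalizer_iff.mp (inv_mem hWN) p).mp hp
    rwa [inv_inv] at this
  have haA : Commute a A' := hJ.comm_of_ne hJ2 hJy ha.1 hA'2
  -- `W = a a^y ζ`
  have hdiff : a' = A' ∨ a' = A' * c := by
    have hWY : Commute W Y := by rw [← hYY]; exact (Commute.refl Y).mul_left (Commute.refl Y)
    set E := Y⁻¹ * a' * Y
    have e2 : A' * E = a * a' := by
      calc A' * E = Y⁻¹ * (a * a') * Y := by simp only [E, A']; group
        _ = Y⁻¹ * (W * Y) := by rw [← haa]; group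
        _ = a * a' := by rw [hWY.eq, inv_mul_cancel_left, haa]
    have hAE : Commute A' E := (hJ.comm_of_ne hJ2 hJy hYa' hA'2).symm
    have e3 : a⁻¹ * E = a' * A'⁻¹ := by
      calc a⁻¹ * E = a⁻¹ * (A' * E * A'⁻¹) := by rw [hAE.eq, mul_inv_cancel_right]
        _ = a⁻¹ * (a * a' * A'⁻¹) := by rw [e2]
        _ = a' * A'⁻¹ := by group
    have hp2 : a⁻¹ * E ∈ Im (Cz z) (cjS y J) := e3 ▸ mul_mem ha'mem (inv_mem hA'2)
    have hcA : Commute c A' := by
      show c * A' = A' * c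
      have hcYc : Commute c Y := by
        show c * Y = Y * c
        conv_rhs => rw [← hcY]
        group
      exact ((hcYc.inv_right.mul_right (hP.c_comm ha.1).symm).mul_right hcYc).eq
    rcases hJ.inter_of_ne hJ2 hJy (mul_mem (inv_mem ha.1) hYa') hp2 with e | e
    · left
      rw [e] at e3
      exact mul_inv_eq_one.mp e3.symm
    · right
      calc a' = a' * A'⁻¹ * A' := by group
        _ = c * A' := by rw [← e3, e]
        _ = A' * c := hcA.eq
  obtain ⟨ζ, hζ, hWζ⟩ : ∃ ζ, (ζ = 1 ∨ ζ = c) ∧ W = a * A' * ζ := by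
    rcases hdiff with e | e
    · exact ⟨1, Or.inl rfl, by rw [haa, e, mul_one]⟩
    · exact ⟨c, Or.inr rfl, (haa.trans (by rw [e])).trans (mul_assoc a A' c).symm⟩
  have hinvert : ∀ q ∈ P, Anti c a q → W⁻¹ * q * W = q * c := by
    intro q hq hanti
    have h1 : Commute q A' := hJ.comm_of_ne hJ2 hJy hq hA'2
    have h2 : Commute q ζ := by
      rcases hζ with rfl | rfl
      · exact Commute.one_right q
      · exact hP.c_comm hq
    have hcq : a⁻¹ * q * a = q * c := hP.anti_conj_eq ha hq hanti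
    have hcA : Commute c (A' * ζ) := by
      have hcYc : Commute c Y := by
        show c * Y = Y * c
        conv_rhs => rw [← hcY]
        group
      refine ((hcYc.inv_right.mul_right (hP.c_comm ha.1).symm).mul_right hcYc).mul_right ?_
      rcases hζ with rfl | rfl
      · exact Commute.one_right c
      · exact Commute.refl c
    calc W⁻¹ * q * W = (A' * ζ)⁻¹ * (a⁻¹ * q * a) * (A' * ζ) := by rw [hWζ]; group
      _ = (A' * ζ)⁻¹ * (q * c * (A' * ζ)) := by rw [hcq, mul_assoc]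
      _ = q * c := by rw [((h1.mul_right h2).mul_left hcA).eq, inv_mul_cancel_left]
  obtain ⟨x, hx, hanti⟩ := hP.exists_inverting ha
  set bx := x⁻¹ * a * x with hbx
  set bx0 := x * a * x⁻¹ with hbx0
  have hbxF : Four P c bx := hP.four_conj ha (le_normalizer hx)
  have hbx0F : Four P c bx0 := by
    have := hP.four_conj ha (inv_mem (le_normalizer hx))
    rwa [inv_inv] at this
  have hanti0 : Anti c a bx0 := by
    have := hP.anti_conj hanti (inv_mem (le_normalizer hx))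
    rw [inv_inv, hbx, show x * (x⁻¹ * a * x) * x⁻¹ = a by group, ← hbx0] at this
    exact hP.anti_symm hbx0F.1 ha.1 this
  obtain ⟨hU1, hU1W, hU1Y⟩ := twisted_image hJ hyz hyy hJy hbxF (hinvert bx hbxF.1 hanti) hζ
  obtain ⟨hU0, hU0W, hU0Y⟩ := twisted_image hJ hyz hyy hJy hbx0F (hinvert bx0 hbx0F.1 hanti0) hζ
  obtain ⟨u1, hu1z, hu1w, hu1u, hu1q⟩ :=
    exists_two_lift_centralizer hwz hww hU1W (n := 1) (by rw [pow_one, pow_two]; exact hU1)
  rw [pow_one, pow_two] at hu1u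
  obtain ⟨x1, hx1J, hx1z, hx1q⟩ := mem_Im.mp hx
  set gX := x * (Y⁻¹ * x * Y) with hgX
  have hxx : ∀ q ∈ P, ∀ n ∈ P, Commute q (Y⁻¹ * n * Y) := fun q hq n hn =>
    hJ.comm_of_ne hJ2 hJy hq (Intr.mem_Im_cjS hyz hn)
  have hconjW : ∀ n ∈ P, (n * (Y⁻¹ * n * Y))⁻¹ * W * (n * (Y⁻¹ * n * Y)) =
      (n⁻¹ * a * n) * (Y⁻¹ * (n⁻¹ * a * n) * Y) * ζ := by
    intro n hn
    set N := Y⁻¹ * n * Y with hN
    have hna : n⁻¹ * a * n ∈ P := mul_mem (mul_mem (inv_mem hn) ha.1) hn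
    have h1 : Commute n A' := hxx n hn a ha.1
    have h2 : Commute (n⁻¹ * a * n) N := hxx _ hna n hn
    have hζc : ∀ q, Commute c q → Commute ζ q := fun q hq => by
      rcases hζ with rfl | rfl
      · exact Commute.one_left q
      · exact hq
    have hcn : Commute c n := (hP.c_comm hn).symm
    have hcN : Commute c N := by
      have hcYc : Commute c Y := by
        show c * Y = Y * c
        conv_rhs => rw [← hcY]
        group
      exact (hcYc.inv_right.mul_right hcn).mul_right hcYc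
    calc (n * N)⁻¹ * W * (n * N) = N⁻¹ * (n⁻¹ * a * n) * (n⁻¹ * A') * (ζ * (n * N)) := by rw [hWζ]; group
      _ = N⁻¹ * (n⁻¹ * a * n) * (A' * n⁻¹) * ((n * N) * ζ) := by
        rw [h1.inv_left.eq, (hζc _ (hcn.mul_right hcN)).eq]
      _ = (N⁻¹ * (n⁻¹ * a * n)) * (A' * N) * ζ := by group
      _ = ((n⁻¹ * a * n) * N⁻¹) * (A' * N) * ζ := by rw [h2.inv_right.eq]
      _ = (n⁻¹ * a * n) * (Y⁻¹ * (n⁻¹ * a * n) * Y) * ζ := by rw [hN, hA']; group
  have hgz : x1 * (y⁻¹ * x1 * y) ∈ Cz z :=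
    mul_mem hx1z (mul_mem (mul_mem (inv_mem hyz) hx1z) hyz)
  set g0 := x1 * (y⁻¹ * x1 * y) with hg0
  have hg0q : img (Cz z) g0 = gX := by
    rw [hg0, img_mul hx1z (mul_mem (mul_mem (inv_mem hyz) hx1z) hyz), img_conj hx1z hyz, hx1q]
  have hiu : img (Cz z) (g0⁻¹ * w * g0) = img (Cz z) u1 := by
    rw [img_conj hwz hgz, hg0q, hu1q]
    exact hconjW x hx
  obtain ⟨o2, ho2, ho2e⟩ := exists_core_conj (mul_mem (mul_mem (inv_mem hgz) hwz) hgz) hu1z
    (by
      calc g0⁻¹ * w * g0 * (g0⁻¹ * w * g0) = g0⁻¹ * (w * w) * g0 := by group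
        _ = 1 := by rw [hww]; group) hu1u hiu
  set g := g0 * o2 with hg
  have hgz' : g ∈ Cz z := mul_mem hgz (core_le ho2)
  have hgwu : g⁻¹ * w * g = u1 := by rw [← ho2e, hg]; group
  have hgq : img (Cz z) g = gX := by
    rw [hg, img_mul hgz (core_le ho2), hg0q, img_eq_one_of_mem_core ho2, mul_one]
  set w0 := g * w * g⁻¹ with hw0
  have hw0z : w0 ∈ Cz z := mul_mem (mul_mem hgz' hwz) (inv_mem hgz')
  have hw0w : w0 ∈ Cz w := by
    have h1 : g⁻¹ * w0 * g ∈ Cz (g⁻¹ * w * g) := by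
      rw [hgwu, show g⁻¹ * w0 * g = w by rw [hw0]; group]
      exact mem_Cz_comm.mp hu1w
    exact (conj_mem_Cz_iff g w w0).mp h1
  have hw02 : w0 * w0 = 1 := by
    calc w0 * w0 = g * (w * w) * g⁻¹ := by rw [hw0]; group
      _ = 1 := by rw [hww]; group
  have hw0q : img (Cz z) w0 = bx0 * (Y⁻¹ * bx0 * Y) * ζ := by
    have hxi : Commute x (Y⁻¹ * x * Y) := hxx x hx x hx
    have := hconjW x⁻¹ (inv_mem hx)
    rw [inv_inv, ← hbx0] at this
    rw [← this, hw0, img_mul (mul_mem hgz' hwz) (inv_mem hgz'), img_mul hgz' hwz, img_inv hgz', hgq,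
      hgX, show x⁻¹ * (Y⁻¹ * x⁻¹ * Y) = (Y⁻¹ * x * Y * x)⁻¹ by group, ← hxi.eq, inv_inv]
  obtain ⟨hu1K, hZ1⟩ :=
    twisted_involution hJ hK hzw hyK hyy hyz hu1z hu1w hu1u (by rw [hu1q]; exact hU1Y)
  obtain ⟨hw0K, hZ0⟩ :=
    twisted_involution hJ hK hzw hyK hyy hyz hw0z hw0w hw02 (by rw [hw0q]; exact hU0Y)
  have hu1ne : u1 ≠ w := by
    intro e
    rw [e] at hu1q
    rw [← hu1q, ← hW] at hU1Y
    have hWY : Commute W Y := by rw [← hYY]; exact (Commute.refl Y).mul_left (Commute.refl Y)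
    rw [mul_assoc, hWY.eq, inv_mul_cancel_left] at hU1Y
    exact hP.c_ne (mul_eq_right.mp hU1Y.symm)
  -- the two diagonal components in the centralizer of `⟨w, u1⟩`
  set K2 := cjS g K with hK2d
  have hK2i : Intr K2 u1 := hgwu ▸ hK.conj g
  set y2 := g⁻¹ * y * g with hy2
  have hy2K : y2 ∈ K2 := conj_mem_cjS hyK
  have hy2u : y2 * y2 = u1 := by
    rw [← hgwu, ← hyy, hy2]; group
  have hgw0 : g⁻¹ * w0 * g = w := by rw [hw0]; group
  have hwK2 : w ∉ normalizer (K2 : Set G) := by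
    intro hwn
    refine hw0K (cjS_eq_self_iff.mp ?_)
    have h1 := congrArg (cjS g⁻¹) (cjS_eq_self_iff.mpr hwn)
    rw [hK2d, ← cjS_mul, ← cjS_mul, ← cjS_mul, mul_inv_cancel, cjS_one, ← mul_assoc, ← hw0] at h1
    exact h1
  have hgz_eq : g⁻¹ * z * g = z := mem_Cz_iff_conj.mp hgz'
  have hconv : ∀ v ∈ Cz w, img (Cz w) z = (img (Cz w) y)⁻¹ * img (Cz w) (v⁻¹ * y * v) →
      v ∉ normalizer (K : Set G) → img (Cz w) (z * w) = img (Cz w) (y * (v⁻¹ * y * v)) := by
    intro v hv hZv hvK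
    have hvy : v⁻¹ * y * v ∈ Cz w := mul_mem (mul_mem (inv_mem hv) hyw) hv
    have hcV : Commute cw (img (Cz w) (v⁻¹ * y * v)) :=
      hK.comm_of_ne (hK.conj_same hv) (fun e => hvK (cjS_eq_self_iff.mp e.symm)) hRU.mem
        (img_mem_Im (conj_mem_cjS hyK) hvy)
    rw [img_mul hzwm (self_mem_Cz w), img_mul hyw hvy, hZv, ← hcw, ← hYw]
    rw [mul_assoc, ← hcV.eq, ← mul_assoc, ← hYfour.2]
    group
  have hgAB : ∀ x, g⁻¹ * x * g ∈ Cz u1 ↔ x ∈ Cz w := fun x => by
    rw [← hgwu]; exact conj_mem_Cz_iff g w x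
  have hzu : img (Cz u1) (z * u1) = img (Cz u1) (y2 * (w⁻¹ * y2 * w)) := by
    have h1 := img_conj_congr g hgAB (mul_mem hzwm (self_mem_Cz w))
      (mul_mem hyw (mul_mem (mul_mem (inv_mem hw0w) hyw) hw0w)) (hconv w0 hw0w hZ0 hw0K)
    have ea : g⁻¹ * (z * w) * g = z * u1 := by
      calc g⁻¹ * (z * w) * g = (g⁻¹ * z * g) * (g⁻¹ * w * g) := by group
        _ = z * u1 := by rw [hgz_eq, hgwu]
    have eb : g⁻¹ * (y * (w0⁻¹ * y * w0)) * g = y2 * (w⁻¹ * y2 * w) := by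
      calc g⁻¹ * (y * (w0⁻¹ * y * w0)) * g
          = (g⁻¹ * y * g) * ((g⁻¹ * w0 * g)⁻¹ * (g⁻¹ * y * g) * (g⁻¹ * w0 * g)) := by group
        _ = _ := by rw [hgw0]
    rwa [ea, eb] at h1
  -- images of the two products lie in components with trivial centre
  have hside : ∀ (K' : Subgroup G) (v v' y' : G), Intr K' v → v' ∈ Cz v → v' * v' = 1 →
      v' ∉ normalizer (K' : Set G) → y' ∈ K' → y' * y' = v → z ∈ Cz v → z ∈ Cz v' →
      img (Cz v) (z * v) = img (Cz v) (y' * (v'⁻¹ * y' * v')) →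
      ∀ H : Subgroup G, (∀ x, x ∈ H ↔ x ∈ Cz v ∧ x ∈ Cz v') →
      ∃ C : Subgroup (OQ H), Cfsg.IsComponent C ∧ img H (z * v) ∈ C ∧ img H (z * v) ≠ 1 ∧
        ∀ q ∈ C, (∀ p ∈ C, p * q = q * p) → q = 1 := by
    intro K' v v' y' hK' hv'v hv'2 hv'K hy'K hy'v hzv hzv' heq H hH
    have hy'A : y' ∈ Cz v := hK'.le hy'K
    set s := img (Cz v) v' with hs
    have hss : s * s = 1 := by rw [hs, ← img_mul hv'v hv'v, hv'2, img_one]
    have hcs : s⁻¹ * img (Cz v) v * s = img (Cz v) v := by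
      rw [hs, ← img_conj (self_mem_Cz v) hv'v, mem_Cz_iff_conj.mp hv'v]
    have hcomm : ∀ p ∈ Im (Cz v) K', ∀ q ∈ Im (Cz v) K', Commute p (s⁻¹ * q * s) := fun p hp q hq =>
      hK'.comm_of_ne (hK'.conj_same hv'v) (fun e => hv'K (cjS_eq_self_iff.mp e.symm)) hp
        (Intr.mem_Im_cjS hv'v hq)
    have hYv : Four (Im (Cz v) K') (img (Cz v) v) (img (Cz v) y') :=
      ⟨img_mem_Im hy'K hy'A, by rw [← img_mul hy'A hy'A, hy'v]⟩
    obtain ⟨hd2, hd1⟩ := hK'.uc.diag_four hcs hcomm hYv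
    have hdm : img (Cz v) (z * v) = img (Cz v) y' * (s⁻¹ * img (Cz v) y' * s) := by
      rw [heq, img_mul hy'A (mul_mem (mul_mem (inv_mem hv'v) hy'A) hv'v), img_conj hy'A hv'v]
    set D := (UC.diagHom hcomm).range
    have hImH : Im (Cz v) H = centralizer ({s} : Set (OQ (Cz v))) :=
      Im_eq_centralizer hH hv'v hv'2
    have hDmem : img (Cz v) y' * (s⁻¹ * img (Cz v) y' * s) ∈ D := UC.mem_diag.mpr ⟨_, hYv.1, rfl⟩
    obtain ⟨C, hC, hinC, honC, hinjC, -⟩ := push (A := Cz v) (B := H) (fun x hx => ((hH x).mp hx).1)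
      (hK'.uc.diag_quasisimple hcs hcomm) (by rw [hImH]; exact UC.diag_le_centralizer hss hcomm)
      (by rw [hImH]; exact hK'.uc.diag_subnormal hss hcomm)
      (by
        have ho : orderOf (img (Cz v) y' * (s⁻¹ * img (Cz v) y' * s)) = 2 :=
          orderOf_eq_prime (by rw [pow_two]; exact hd2) hd1
        exact (dvd_of_eq ho.symm).trans (Subgroup.orderOf_dvd_natCard D hDmem))
      (fun δ hd _ hcen => hK'.uc.diag_central hcs hcomm hd hcen)
    have hzvH : z * v ∈ H :=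
      (hH _).mpr ⟨mul_mem hzv (self_mem_Cz v), mul_mem hzv' (mem_Cz_comm.mp hv'v)⟩
    have hzvD : img (Cz v) (z * v) ∈ D := hdm ▸ hDmem
    refine ⟨C, hC, hinC _ hzvH hzvD, fun e => hd1 ?_, fun q hq hcen => ?_⟩
    · rw [← hdm]; exact hinjC _ hzvH hzvD e
    · obtain ⟨x, hxH, hxD, rfl⟩ := honC q hq
      have hx1 : img (Cz v) x = 1 := by
        refine hK'.uc.diag_central hcs hcomm hxD fun p hp => ?_
        obtain ⟨n, hn, hnA, rfl⟩ : ∃ n, n ∈ H ∧ n ∈ Cz v ∧ img (Cz v) n = p := by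
          have := (UC.diag_le_centralizer hss hcomm) hp
          rw [← hImH] at this
          exact mem_Im.mp this
        have hxA := ((hH x).mp hxH).1
        have hkey : img (Cz v) (n * x * (x * n)⁻¹) = 1 := by
          refine hinjC _ (mul_mem (mul_mem hn hxH) (inv_mem (mul_mem hxH hn))) ?_ ?_
          · rw [img_mul (mul_mem hnA hxA) (inv_mem (mul_mem hxA hnA)), img_inv (mul_mem hxA hnA),
              img_mul hnA hxA, img_mul hxA hnA]
            exact mul_mem (mul_mem hp hxD) (inv_mem (mul_mem hxD hp))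
          · rw [img_mul (mul_mem hn hxH) (inv_mem (mul_mem hxH hn)), img_inv (mul_mem hxH hn),
              img_mul hn hxH, img_mul hxH hn, hcen _ (hinC n hn hp), mul_inv_cancel]
        rwa [img_mul (mul_mem hnA hxA) (inv_mem (mul_mem hxA hnA)), img_inv (mul_mem hxA hnA),
          img_mul hnA hxA, img_mul hxA hnA, mul_inv_eq_one] at hkey
      have hxc := (img_eq_one_iff ((hH x).mp hxH).1).mp hx1
      exact img_eq_one_of_mem_core (core_inf_le (fun a ha => ((hH a).mp ha).1) hxc hxH)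
  set H := Cz w ⊓ Cz u1 with hH
  have hwu : w ∈ Cz u1 := mem_Cz_comm.mp hu1w
  have hzu1 : z ∈ Cz u1 := mem_Cz_comm.mp hu1z
  obtain ⟨C1, hC1, hm1, hne1, hZ1c⟩ := hside K w u1 y hK hu1w hu1u hu1K hyK hyy hzwm hzu1
    (hconv u1 hu1w hZ1 hu1K) H (fun x => mem_inf)
  obtain ⟨C2, hC2, hm2, -, -⟩ := hside K2 u1 w y2 hK2i hwu hww hwK2 hy2K hy2u hzu1 hzwm hzu
    H (fun x => by rw [hH, mem_inf]; exact and_comm)
  have hwH : w ∈ H := ⟨self_mem_Cz w, hwu⟩
  have huH : u1 ∈ H := ⟨hu1w, self_mem_Cz u1⟩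
  have hzH : z ∈ H := ⟨hzwm, hzu1⟩
  have hcen : ∀ e ∈ H, (∀ x ∈ H, x * e = e * x) → ∀ q : OQ H, Commute q (img H e) := by
    intro e he hec q
    obtain ⟨x, hx, rfl⟩ := exists_img_eq q
    show _ * _ = _ * _
    rw [← img_mul hx he, ← img_mul he hx, hec x hx]
  have hwu1 : w * u1 ∈ H := mul_mem hwH huH
  have hwuc : ∀ x ∈ H, x * (w * u1) = w * u1 * x := fun x hx => by
    rw [← mul_assoc, mem_Cz.mp hx.1, mul_assoc, mem_Cz.mp hx.2, ← mul_assoc]
  have hprod : img H (w * u1) = img H (z * w) * img H (z * u1) := by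
    rw [← img_mul (mul_mem hzH hwH) (mul_mem hzH huH)]
    congr 1
    rw [show z * w * (z * u1) = z * (w * z) * u1 by group, ← hzwz, ← mul_assoc z z w, hzz, one_mul]
  by_cases hCC : C1 = C2
  · have hmem : img H (w * u1) ∈ C1 := hprod ▸ mul_mem hm1 (hCC.symm ▸ hm2)
    have h1 := hZ1c _ hmem fun p _ => (hcen _ hwu1 hwuc p).eq
    have h2 : w * u1 = 1 := eq_one_of_img_eq_one (n := 1) hwu1 (by
      rw [pow_one, pow_two]
      calc w * u1 * (w * u1) = w * (u1 * w) * u1 := by group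
        _ = (w * w) * (u1 * u1) := by rw [mem_Cz.mp hu1w]; group
        _ = 1 := by rw [hww, hu1u, one_mul]) h1
    exact hu1ne (by rw [← inv_eq_of_mul_eq_one_right h2, inv_eq_of_mul_eq_one_right hww])
  · refine hne1 (hZ1c _ hm1 fun p hp => ?_)
    have h1 : Commute p (img H (z * u1)) :=
      commute_of_commutator_eq_bot (commutator_components_eq_bot hC1 hC2 hCC) hp hm2
    have e : img H (z * w) = img H (w * u1) * (img H (z * u1))⁻¹ := by
      rw [hprod, mul_inv_cancel_right]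
    rw [e]
    exact ((hcen _ hwu1 hwuc p).mul_right h1.inv_right).eq

/-- A 2-element of order at least four of `K` centralizing `z` normalizes `J`. -/
theorem part_one (hJ : Intr J z) (hK : Intr K w) :
    ∀ (f : ℕ) (y : G), y ∈ K → y ^ 2 ^ (f + 1) = w → y ∈ Cz z → y ∈ normalizer (J : Set G) := by
  by_cases hzw : z = w
  · subst hzw
    intro f y hyK _ hyz
    exact hJ.mem_normalizer_of_img hyz
      (component_le_normalizer hK.pc.2.1 hJ.pc.2.1 (img_mem_Im hyK hyz))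
  intro f
  induction f with
  | zero =>
    intro y hyK hy hyz
    have hyy : y * y = w := by simpa [pow_two] using hy
    exact four_normalizes hJ hK hzw hyK hyy hyz (four_not_moves hJ hK hzw hyK hyy hyz)
  | succ f ih =>
    intro y hyK hy hyz
    refine eight_normalizes hJ hK hzw (f := f + 1) (by omega) hyK hy hyz (ih (y * y) (mul_mem hyK hyK) ?_
      (mul_mem hyz hyz))
    rw [← pow_two, ← pow_mul, ← pow_succ']
    exact hy

end CfsgLib.Invol68
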