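import Cfsg.Agent.Lib.Invol68.PartOneB
import Cfsg.Agent.Lib.Invol68.Balance

/-!
If `z` normalizes `K` then `w` normalizes `J`.
-/

set_option autoImplicit false

namespace CfsgLib.Invol68

open Subgroup CfsgLib.Components

theorem sq_sq_eq_one {X : Type*} [Group X] {x : X} (h : x ^ 2 ^ 2 = 1) : x * x * (x * x) = 1 := by
  rw [← h, show (2 : ℕ) ^ 2 = 4 from rfl]
  simp [pow_succ, mul_assoc]

variable {G : Type*} [Group G] [Finite G] {J K : Subgroup G} {z w : G}

/-- With `w` moving `J`, no element of order four of `K` modulo the core is centralized by `z`. -/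
theorem no_fixed_four (hJ : Intr J z) (hK : Intr K w) (hzw : z ∈ Cz w)
    (hwJ : w ∉ normalizer (J : Set G)) {q : OQ (Cz w)}
    (hq : Four (Im (Cz w) K) (img (Cz w) w) q) (hqz : Commute q (img (Cz w) z)) : False := by
  obtain ⟨x, hxw, hxz, hx4, hxq⟩ :=
    exists_two_lift_centralizer hzw hJ.zz hqz (n := 2) (pow_four_eq_one hq.2 hK.uc.cc)
  have hxK : x ∈ K := hK.mem_of_two hxw hx4 (hxq.symm ▸ hq.1)
  have hxx : x * x = w := by
    refine (hK.uniq _ (mul_mem hxK hxK) ?_).resolve_left fun e => hK.img_z_ne ?_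
    · exact sq_sq_eq_one hx4
    · rw [← hq.2, ← hxq, ← img_mul hxw hxw, e, img_one]
  have := part_one hJ hK 0 x hxK (by simpa [pow_two] using hxx) hxz
  exact hwJ (hxx ▸ mul_mem this this)

/-- A central element of the component obtained by pushing comes from a central element. -/
theorem central_of_push {A H : Subgroup G} (hHA : H ≤ A) {D : Subgroup (OQ A)} (hDH : D ≤ Im A H)
    {C : Subgroup (OQ H)} (hin : ∀ x ∈ H, img A x ∈ D → img H x ∈ C)
    (hon : ∀ q ∈ C, ∃ x ∈ H, img A x ∈ D ∧ img H x = q)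
    (hinj : ∀ x ∈ H, img A x ∈ D → img H x = 1 → img A x = 1) {q : OQ H} (hq : q ∈ C)
    (hcen : ∀ p ∈ C, p * q = q * p) :
    ∃ x ∈ H, img H x = q ∧ img A x ∈ D ∧ ∀ p ∈ D, p * img A x = img A x * p := by
  obtain ⟨x, hxH, hxD, rfl⟩ := hon q hq
  refine ⟨x, hxH, rfl, hxD, fun p hp => ?_⟩
  obtain ⟨n, hn, hnA, rfl⟩ := mem_Im.mp (hDH hp)
  have hxA := hHA hxH
  have hkey : img A (n * x * (x * n)⁻¹) = 1 := by
    refine hinj _ (mul_mem (mul_mem hn hxH) (inv_mem (mul_mem hxH hn))) ?_ ?_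
    · rw [img_mul (mul_mem hnA hxA) (inv_mem (mul_mem hxA hnA)), img_inv (mul_mem hxA hnA),
        img_mul hnA hxA, img_mul hxA hnA]
      exact mul_mem (mul_mem hp hxD) (inv_mem (mul_mem hxD hp))
    · rw [img_mul (mul_mem hn hxH) (inv_mem (mul_mem hxH hn)), img_inv (mul_mem hxH hn),
        img_mul hn hxH, img_mul hxH hn, hcen _ (hin n hn hp), mul_inv_cancel]
  rwa [img_mul (mul_mem hnA hxA) (inv_mem (mul_mem hxA hnA)), img_inv (mul_mem hxA hnA),
    img_mul hnA hxA, img_mul hxA hnA, mul_inv_eq_one] at hkey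

/-- An involution `t` centralizing `K` modulo the core, with `w` inducing a nontrivial inner automorphism
on the component of `C(t)` attached to it, is impossible when that component has the order of `K`. -/
theorem centralizing_false {J : Subgroup G} {t : G} (hJ : Intr J t) (hK : Intr K w)
    (hcard : Nat.card (Im (Cz w) K) = Nat.card (Im (Cz t) J)) (hwt : w ∈ Cz t)
    (htR : ∀ q ∈ Im (Cz w) K, Commute q (img (Cz w) t)) {p p' : OQ (Cz t)}
    (hp : Four (Im (Cz t) J) (img (Cz t) t) p) (hp' : ∀ x ∈ Im (Cz t) J, Commute x p')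
    (hW : img (Cz t) w = p * p') : False := by
  haveI : Fact (Nat.Prime 2) := ⟨Nat.prime_two⟩
  have htw : t ∈ Cz w := mem_Cz_comm.mp hwt
  set H := Cz w ⊓ Cz t with hHdef
  have hHA : H ≤ Cz w := inf_le_left
  have hImH : Im (Cz w) H = centralizer ({img (Cz w) t} : Set (OQ (Cz w))) :=
    Im_eq_centralizer (fun x => mem_inf) htw hJ.zz
  set R := Im (Cz w) K with hR
  set cw := img (Cz w) w with hcw
  have hRU : UC R cw := hK.uc
  have hRH : R ≤ Im (Cz w) H := by
    rw [hImH]
    exact fun q hq => mem_centralizer_singleton_iff.mpr (htR q hq).eq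
  have hodd : ∀ δ ∈ R, Odd (orderOf δ) → (∀ x ∈ R, x * δ = δ * x) → δ = 1 := by
    intro δ hδ ho hcent
    rcases hRU.cen δ hδ hcent with e | e
    · exact e
    · rw [e, hRU.ord] at ho
      exact absurd ho (by decide)
  obtain ⟨C, hC, hin, hon, hinj, hCcard⟩ := push hHA hRU.comp.2 hRH hRU.comp.1.subgroupOf
    ((dvd_of_eq hRU.ord.symm).trans (Subgroup.orderOf_dvd_natCard R hRU.mem)) hodd
  -- the 2-elements over `C`
  set S : Set G := {x | x ∈ H ∧ (∃ n : ℕ, x ^ 2 ^ n = 1) ∧ img H x ∈ C}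
  set L := Subgroup.closure S with hL
  have hLH : L ≤ H := (Subgroup.closure_le _).mpr fun x hx => hx.1
  set P := Im (Cz t) J with hP
  set ct := img (Cz t) t with hct
  have hPU : UC P ct := hJ.uc
  set N := normalizer (P : Set (OQ (Cz t)))
  have hlayer : ∀ x ∈ L, img (Cz t) x ∈ Cfsg.layer (OQ (Cz t)) := by
    intro x hx
    induction hx using Subgroup.closure_induction with
    | mem x hx =>
      exact img_mem_layer hwt hK.zz (fun a => by rw [mem_inf]; exact and_comm) hC hx.1 hx.2.1.choose_spec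
        hx.2.2
    | one => rw [img_one]; exact one_mem _
    | mul a b ha hb iha ihb =>
      rw [img_mul (hLH ha).2 (hLH hb).2]; exact mul_mem iha ihb
    | inv a ha iha => rw [img_inv (hLH ha).2]; exact inv_mem iha
  let CN : Subgroup ↥N := (centralizer (P : Set (OQ (Cz t)))).subgroupOf N
  haveI : CN.Normal := by
    refine ⟨fun c hc n => ?_⟩
    rw [mem_subgroupOf, mem_centralizer_iff] at hc ⊢
    intro x hx
    have hx' : (n : (OQ (Cz t)))⁻¹ * x * n ∈ P := by
      have := (mem_normalizer_iff.mp (inv_mem n.2) x).mp hx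
      rwa [inv_inv] at this
    have h1 := hc _ hx'
    show x * ((n : (OQ (Cz t))) * c * (n : (OQ (Cz t)))⁻¹) = (n : (OQ (Cz t))) * c * (n : (OQ (Cz t)))⁻¹ * x
    calc x * ((n : (OQ (Cz t))) * c * (n : (OQ (Cz t)))⁻¹) = n * ((n : (OQ (Cz t)))⁻¹ * x * n * c) * (n : (OQ (Cz t)))⁻¹ := by group
      _ = (n : (OQ (Cz t))) * c * (n : (OQ (Cz t)))⁻¹ * x := by rw [h1]; group
  let q := QuotientGroup.mk' CN
  have hNmem : ∀ x ∈ L, img (Cz t) x ∈ N := fun x hx =>
    layer_le_normalizer_component hPU.comp (hlayer x hx)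
  let ρ : ↥L →* ↥N ⧸ CN := q.comp (MonoidHom.mk' (fun x : L => (⟨_, hNmem x x.2⟩ : ↥N))
    fun a b => Subtype.ext (img_mul (hLH a.2).2 (hLH b.2).2))
  let ψ : ↥L →* OQ H := MonoidHom.mk' (fun x : L => img H x) fun a b => img_mul (hLH a.2) (hLH b.2)
  have hψ : ψ.range = C := by
    refine le_antisymm ?_ (component_le_of_two hC fun x hx n hn hxC =>
      ⟨⟨x, Subgroup.subset_closure ⟨hx, ⟨n, hn⟩, hxC⟩⟩, rfl⟩)
    rintro _ ⟨⟨x, hx⟩, rfl⟩
    show img H x ∈ C
    induction hx using Subgroup.closure_induction with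
    | mem x hx => exact hx.2.2
    | one => rw [img_one]; exact one_mem _
    | mul a b ha hb iha ihb => rw [img_mul (hLH ha) (hLH hb)]; exact mul_mem iha ihb
    | inv a ha iha => rw [img_inv (hLH ha)]; exact inv_mem iha
  have hwH : w ∈ H := ⟨self_mem_Cz w, hwt⟩
  have hww : w * w = 1 := hK.zz
  have hwC : img H w ∈ C := hin w hwH hRU.mem
  have hwne : img H w ≠ 1 := fun e =>
    hK.z_ne (eq_one_of_img_eq_one (n := 1) hwH (by rw [pow_one, pow_two, hww]) e)
  have hwL : w ∈ L := Subgroup.subset_closure ⟨hwH, ⟨1, by rw [pow_one, pow_two, hww]⟩, hwC⟩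
  have hρw : ρ ⟨w, hwL⟩ ≠ 1 := by
    intro e
    refine hPU.four_not_central hp fun x hx => ?_
    have h1 := mem_centralizer_iff.mp (mem_subgroupOf.mp ((QuotientGroup.eq_one_iff _).mp e)) x hx
    have h2 : x * (p * p') = p * p' * x := by
      have : x * img (Cz t) w = img (Cz t) w * x := h1
      rwa [hW] at this
    have h3 : x * p * p' = p * x * p' := by
      rw [mul_assoc, h2, mul_assoc p, ← (hp' x hx).eq, mul_assoc]
    exact mul_right_cancel h3
  -- the kernel of the action is trivial modulo the core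
  have hker : ∀ n : L, ρ n = 1 → ψ n = 1 := by
    intro n hn
    by_contra hne
    set M := ρ.ker.map ψ
    have hMC : M ≤ C := hψ ▸ map_le_range ψ _
    have hMn : C ≤ normalizer (M : Set (OQ H)) := by
      rw [← hψ, MonoidHom.range_eq_map]
      exact (map_mono le_normalizer_of_normal).trans (le_normalizer_map ψ)
    have hexists : ∃ m : L, ρ m = 1 ∧ ψ m = img H w := by
      obtain e | e := component_eq_or_commutator_of_normalized hC hMC hMn
      · obtain ⟨m, hm, hme⟩ := e.ge hwC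
        exact ⟨m, hm, hme⟩
      · have hnM : ψ n ∈ M := mem_map_of_mem ψ hn
        obtain ⟨x, hxH, hxq, hxR, hxcen⟩ := central_of_push hHA hRH hin hon hinj (hMC hnM)
          fun x hx => commute_of_commutator_eq_bot e hx hnM
        rcases hRU.cen _ hxR hxcen with e' | e'
        · exfalso
          refine hne ?_
          have hxc := (img_eq_one_iff (hHA hxH)).mp e'
          rw [← hxq]
          exact img_eq_one_of_mem_core (core_inf_le hHA hxc hxH)
        · refine ⟨n, hn, ?_⟩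
          rw [← hxq]
          have h1 : img (Cz w) (x⁻¹ * w) = 1 := by
            rw [img_mul (inv_mem (hHA hxH)) (self_mem_Cz w), img_inv (hHA hxH), e', inv_mul_cancel]
          have h2 := core_inf_le hHA
            ((img_eq_one_iff (mul_mem (inv_mem (hHA hxH)) (self_mem_Cz w))).mp h1)
            (mul_mem (inv_mem hxH) hwH)
          exact (img_eq_iff hxH hwH).mpr h2
    obtain ⟨m, hm, hme⟩ := hexists
    refine hρw ?_
    obtain ⟨j, hjodd, hj⟩ := exists_odd_pow_of_mem_core ((img_eq_iff (hLH m.2) hwH).mp hme)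
    have hj' : (m⁻¹ * ⟨w, hwL⟩ : L) ^ j = 1 := Subtype.ext (by simpa using hj)
    refine eq_one_of_odd_pow (n := 1) ?_ hjodd ?_
    · rw [pow_one, ← map_pow, pow_two]
      exact (congrArg ρ (Subtype.ext hww : (⟨w, hwL⟩ * ⟨w, hwL⟩ : L) = 1)).trans (map_one ρ)
    · have := congrArg ρ hj'
      rwa [map_pow, map_mul, map_inv, hm, inv_one, one_mul, map_one] at this
  -- counting
  set SP := ((P.subgroupOf N).map q)
  have hρSP : ρ.range ≤ SP := by
    rintro _ ⟨⟨x, hx⟩, rfl⟩
    obtain ⟨r, hr, v, hv, e⟩ := layer_decomp hPU.comp (hlayer x hx)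
    refine ⟨⟨r, le_normalizer hr⟩, hr, (QuotientGroup.eq.mpr ?_)⟩
    rw [mem_subgroupOf, mem_centralizer_iff]
    intro a ha
    show a * (r⁻¹ * img (Cz t) x) = r⁻¹ * img (Cz t) x * a
    rw [e, inv_mul_cancel_left]
    exact (hv a ha).eq
  have h1 : Nat.card C ∣ Nat.card ρ.range := by
    rw [← hψ, ← index_ker, ← index_ker]
    exact index_dvd_of_le fun n hn => hker n hn
  have h2 : Nat.card ρ.range ∣ Nat.card SP := card_dvd_of_le hρSP
  have h3 : Nat.card SP < Nat.card P := by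
    rw [show Nat.card P = Nat.card (P.subgroupOf N) from
      (Nat.card_congr (subgroupOfEquivOfLe le_normalizer).toEquiv).symm]
    refine Nat.card_lt_card_of_surjective_of_not_injective (q.subgroupMap (P.subgroupOf N))
      (q.subgroupMap_surjective _) fun hinj' => hPU.c_ne ?_
    have := @hinj' ⟨⟨ct, le_normalizer hPU.mem⟩, hPU.mem⟩ 1 (Subtype.ext (by
      show q ⟨ct, le_normalizer hPU.mem⟩ = q 1
      rw [map_one]
      refine (QuotientGroup.eq_one_iff _).mpr ?_
      rw [mem_subgroupOf, mem_centralizer_iff]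
      exact fun x hx => (hPU.c_comm hx).eq))
    simpa using congrArg (fun u : P.subgroupOf N => ((u : ↥N) : (OQ (Cz t)))) this
  have h4 := Nat.le_of_dvd Nat.card_pos (h1.trans h2)
  rw [hCcard] at h4
  omega
where
  Nat.card_lt_card_of_surjective_of_not_injective {α β : Type _} [Finite α] (f : α → β)
      (hs : Function.Surjective f) (hi : ¬ Function.Injective f) : Nat.card β < Nat.card α := by
    haveI : Finite β := Finite.of_surjective f hs
    refine lt_of_le_of_ne (Nat.card_le_card_of_surjective f hs) fun e => hi ?_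
    exact (hs.bijective_of_nat_card_le e.ge).1

/-- If `z` normalizes `K` then `w` normalizes `J`. -/
theorem part_two (hJ : Intr J z) (hK : Intr K w)
    (hcard : Nat.card (Im (Cz w) K) = Nat.card (Im (Cz z) J))
    (hzK : z ∈ normalizer (K : Set G)) : w ∈ normalizer (J : Set G) := by
  haveI : Fact (Nat.Prime 2) := ⟨Nat.prime_two⟩
  have hzw : z ∈ Cz w := by
    refine mem_Cz_iff_conj.mpr ?_
    have hm : z⁻¹ * w * z ∈ K := by
      have := (mem_normalizer_iff.mp (inv_mem hzK) w).mp hK.mem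
      rwa [inv_inv] at this
    refine (hK.uniq _ hm ?_).resolve_left fun e => hK.z_ne ?_
    · calc z⁻¹ * w * z * (z⁻¹ * w * z) = z⁻¹ * (w * w) * z := by group
        _ = 1 := by rw [hK.zz]; group
    · calc w = z * (z⁻¹ * w * z) * z⁻¹ := by group
        _ = 1 := by rw [e]; group
  have hwz : w ∈ Cz z := mem_Cz_comm.mp hzw
  by_contra hwJ
  have hzz : z * z = 1 := hJ.zz
  have hww : w * w = 1 := hK.zz
  have hzi : z⁻¹ = z := hJ.z_inv
  have hwzc : w * z = z * w := mem_Cz.mp hwz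
  set c := img (Cz z) z with hc
  set W := img (Cz z) w with hW
  set P := Im (Cz z) J with hPdef
  have hP : UC P c := hJ.uc
  have hWW : W * W = 1 := by rw [hW, ← img_mul hwz hwz, hww, img_one]
  have hWi : W⁻¹ = W := inv_eq_of_mul_eq_one_right hWW
  have hcW : W⁻¹ * c * W = c := by
    rw [hW, hc, ← img_conj (self_mem_Cz z) hwz, mem_Cz_iff_conj.mp hwz]
  have hJw : J ≠ cjS w J := fun e => hwJ (cjS_eq_self_iff.mp e.symm)
  have hcomm : ∀ p ∈ P, ∀ q ∈ P, Commute p (W⁻¹ * q * W) := fun p hp q hq =>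
    hJ.comm_of_ne (hJ.conj_same hwz) hJw hp (Intr.mem_Im_cjS hwz hq)
  set D := (UC.diagHom hcomm).range with hD
  have hDc : D ≤ centralizer ({W} : Set (OQ (Cz z))) := UC.diag_le_centralizer hWW hcomm
  set H := Cz z ⊓ Cz w with hH
  have hHz : H ≤ Cz z := inf_le_left
  have hHw : H ≤ Cz w := inf_le_right
  have hImH : Im (Cz z) H = centralizer ({W} : Set (OQ (Cz z))) :=
    Im_eq_centralizer (fun x => mem_inf) hwz hww
  obtain ⟨a, ha⟩ := hP.exists_four
  obtain ⟨x0, hx0, hanti⟩ := hP.exists_inverting ha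
  set b := x0⁻¹ * a * x0 with hbdef
  have hb : Four P c b := hP.four_conj ha (le_normalizer hx0)
  set δa := a * (W⁻¹ * a * W) with hδa
  set δb := b * (W⁻¹ * b * W) with hδb
  obtain ⟨hδa2, hδa1⟩ := hP.diag_four hcW hcomm ha
  obtain ⟨hδb2, hδb1⟩ := hP.diag_four hcW hcomm hb
  have hδaD : δa ∈ D := UC.mem_diag.mpr ⟨a, ha.1, rfl⟩
  have hδbD : δb ∈ D := UC.mem_diag.mpr ⟨b, hb.1, rfl⟩
  have hδab : Commute δa δb ∧ δa * δb ≠ 1 := by
    have hab : Four P c (a * b) := hP.anti_mul_four ha hb hanti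
    have e1 : δa * δb = (a * b) * (W⁻¹ * (a * b) * W) :=
      ((UC.diagHom hcomm).map_mul ⟨a, ha.1⟩ ⟨b, hb.1⟩).symm
    have h1 := hP.diag_four hcW hcomm hab
    refine ⟨?_, fun e => h1.2 (e1 ▸ e)⟩
    have h2 : δa * δb * (δa * δb) = 1 := by rw [e1]; exact h1.1
    show δa * δb = δb * δa
    calc δa * δb = (δa * δa) * (δa * δb) * (δb * δb) := by rw [hδa2, hδb2, one_mul, mul_one]
      _ = δa * (δa * δa) * (δb * δb) * δb := by group
      _ = δb * δa := by
        rw [hδa2, hδb2, mul_one, mul_one, eq_comm]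
        calc δb * δa = (δa * δb)⁻¹ := by
              rw [mul_inv_rev, inv_eq_of_mul_eq_one_right hδa2, inv_eq_of_mul_eq_one_right hδb2]
          _ = δa * δb := inv_eq_of_mul_eq_one_right h2
  obtain ⟨C, hC, hin, hon, hinj, -⟩ := push (A := Cz z) (B := H) hHz
    (hP.diag_quasisimple hcW hcomm) (by rw [hImH]; exact hDc)
    (by rw [hImH]; exact hP.diag_subnormal hWW hcomm)
    ((dvd_of_eq (orderOf_eq_prime (by rw [pow_two]; exact hδa2) hδa1 : orderOf δa = 2).symm).trans
      (Subgroup.orderOf_dvd_natCard D hδaD))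
    (fun δ hd _ hcent => hP.diag_central hcW hcomm hd hcent)
  have hDH : D ≤ Im (Cz z) H := by rw [hImH]; exact hDc
  have hsubH : (D.subgroupOf (Im (Cz z) H)).IsSubnormal := by
    rw [hImH]; exact hP.diag_subnormal hWW hcomm
  -- 2-elements over `C` are determined by their images
  have hsame : ∀ x ∈ H, ∀ x' ∈ H, ∀ n : ℕ, x ^ 2 ^ n = 1 → img (Cz z) x' ∈ D → img H x = img H x' →
      img (Cz z) x = img (Cz z) x' := by
    intro x hx x' hx' n hn hx'D he
    have hxD := push_two hHz hsubH hx hn hx' hx'D he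
    have h1 := hinj (x'⁻¹ * x) (mul_mem (inv_mem hx') hx)
      (by rw [img_mul (inv_mem (hHz hx')) (hHz hx), img_inv (hHz hx')]
          exact mul_mem (inv_mem hx'D) hxD)
      (by rw [img_mul (inv_mem hx') hx, img_inv hx', he, inv_mul_cancel])
    rw [img_mul (inv_mem (hHz hx')) (hHz hx), img_inv (hHz hx'), inv_mul_eq_one] at h1
    exact h1.symm
  -- centre of `C`
  have hCcen : ∀ q ∈ C, (∀ p ∈ C, p * q = q * p) → q = 1 := by
    intro q hq hcent
    obtain ⟨x, hx, hxq, hxD, hxc⟩ := central_of_push hHz hDH hin hon hinj hq hcent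
    rw [← hxq]
    exact img_eq_one_of_mem_core (core_inf_le hHz
      ((img_eq_one_iff (hHz hx)).mp (hP.diag_central hcW hcomm hxD hxc)) hx)
  -- commuting involutions over `δa`, `δb`
  obtain ⟨u0, hu0z, hu0w, hu02, hu0q⟩ := exists_two_lift_centralizer hwz hww
    (mem_centralizer_singleton_iff.mp (hDc hδaD)) (n := 1) (by rw [pow_one, pow_two]; exact hδa2)
  obtain ⟨v00, hv00z, hv00w, hv002, hv00q⟩ := exists_two_lift_centralizer hwz hww
    (mem_centralizer_singleton_iff.mp (hDc hδbD)) (n := 1) (by rw [pow_one, pow_two]; exact hδb2)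
  have hu0H : u0 ∈ H := ⟨hu0z, hu0w⟩
  have hv00H : v00 ∈ H := ⟨hv00z, hv00w⟩
  have hψfix : img H (u0⁻¹ * v00 * u0) = img H v00 := by
    have hm : u0⁻¹ * v00 * u0 ∈ H := mul_mem (mul_mem (inv_mem hu0H) hv00H) hu0H
    have h1 : img (Cz z) (u0⁻¹ * v00 * u0) = img (Cz z) v00 := by
      rw [img_conj hv00z hu0z, hu0q, hv00q, mul_assoc, ← hδab.1.eq, inv_mul_cancel_left]
    exact (img_eq_iff hm hv00H).mpr
      (core_inf_le hHz ((img_eq_iff (hHz hm) hv00z).mp h1) (mul_mem (inv_mem hm) hv00H))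
  obtain ⟨v0, hv0H, hv02, hv0e, hv0c⟩ := exists_fixed_involution (A := H) hu02
    (fun x => ⟨fun h => by
        have := mul_mem (mul_mem hu0H h) (inv_mem hu0H)
        simpa [mul_assoc] using this, fun h => mul_mem (mul_mem (inv_mem hu0H) h) hu0H⟩)
    hv00H (by rwa [pow_one, pow_two] at hv002) hψfix
  rw [pow_one, pow_two] at hu02
  have hv0q : img (Cz z) v0 = δb := by
    rw [← hv00q]
    exact hsame v0 hv0H v00 hv00H 1 (by rw [pow_one, pow_two, hv02]) (by rw [hv00q]; exact hδbD) hv0e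
  -- the kernel of the action on `K`
  set R := Im (Cz w) K with hRdef
  set cw := img (Cz w) w with hcw
  have hR : UC R cw := hK.uc
  set Z := img (Cz w) z with hZ
  have hlayer : ∀ x ∈ H, ∀ n : ℕ, x ^ 2 ^ n = 1 → img H x ∈ C → img (Cz w) x ∈ Cfsg.layer _ :=
    fun x hx n hn hxC =>
      img_mem_layer hzw hzz (fun a => by rw [hH, mem_inf]; exact and_comm) hC hx hn hxC
  let CR : G → Prop := fun x => ∀ q ∈ R, Commute q (img (Cz w) x)
  have hZu : ∀ x ∈ H, Commute (img (Cz w) x) Z := fun x hx => by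
    show _ * _ = _ * _
    rw [← img_mul (hHw hx) hzw, ← img_mul hzw (hHw hx), mem_Cz.mp hx.1]
  have hu0D : img (Cz z) u0 ∈ D := hu0q.symm ▸ hδaD
  have hv0D : img (Cz z) v0 ∈ D := hv0q.symm ▸ hδbD
  have huv2 : u0 * v0 * (u0 * v0) = 1 := by
    have h : Commute u0 v0 := by
      show u0 * v0 = v0 * u0
      conv_lhs => rw [← hv0c]
      group
    calc u0 * v0 * (u0 * v0) = u0 * (v0 * u0) * v0 := by group
      _ = (u0 * u0) * (v0 * v0) := by rw [← h.eq]; group
      _ = 1 := by rw [hu02, hv02, one_mul]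
  obtain ⟨n0, hn0H, hn0D, hn0ne, hn0CR⟩ :
      ∃ n, n ∈ H ∧ img (Cz z) n ∈ D ∧ img (Cz z) n ≠ 1 ∧ CR n := by
    by_contra hcon
    push Not at hcon
    -- each of the three involutions induces an element of order four inverted by `z`
    have hact : ∀ x ∈ H, x * x = 1 → img (Cz z) x ∈ D → img (Cz z) x ≠ 1 →
        ∃ r t, Four R cw r ∧ (∀ q ∈ R, Commute q t) ∧ img (Cz w) x = r * t ∧ Z⁻¹ * r * Z = r * cw := by
      intro x hx hxx hxD hxne
      obtain ⟨r, hr, t, ht, e⟩ := layer_decomp hR.comp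
        (hlayer x hx 1 (by rw [pow_one, pow_two, hxx]) (hin x hx hxD))
      have hrt : Commute r t := ht r hr
      have hsq : r * r * (t * t) = 1 := by
        calc r * r * (t * t) = r * (r * t) * t := by group
          _ = r * (t * r) * t := by rw [hrt.eq]
          _ = (r * t) * (r * t) := by group
          _ = 1 := by rw [← e, ← img_mul (hHw hx) (hHw hx), hxx, img_one]
      have hr2 : r * r = 1 ∨ r * r = cw := hR.cen _ (mul_mem hr hr) fun q hq => by
        have : r * r = (t * t)⁻¹ := eq_inv_of_mul_eq_one_left hsq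
        rw [this]
        exact ((ht q hq).mul_right (ht q hq)).inv_right.eq
      have hrfour : Four R cw r := by
        refine ⟨hr, hr2.resolve_left fun h1 => hcon x hx hxD hxne fun q hq => ?_⟩
        rw [e]
        refine Commute.mul_right ?_ (ht q hq)
        rcases hR.uniq r hr h1 with e1 | e1
        · exact e1 ▸ Commute.one_right q
        · exact e1 ▸ hR.c_comm hq
      refine ⟨r, t, hrfour, ht, e, ?_⟩
      have hZN : Z ∈ normalizer (R : Set _) := Intr.img_mem_normalizer hzw hzK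
      have hr' : Four R cw (Z⁻¹ * r * Z) := hR.four_conj hrfour hZN
      have hcomm' : Commute r (Z⁻¹ * r * Z) := by
        have e3 : Z⁻¹ * r * Z * (Z⁻¹ * t * Z) = r * t := by
          calc Z⁻¹ * r * Z * (Z⁻¹ * t * Z) = Z⁻¹ * ((r * t) * Z) := by group
            _ = r * t := by rw [← e, (hZu x hx).eq, inv_mul_cancel_left]
        have hZt : ∀ q ∈ R, Commute q (Z⁻¹ * t * Z) := fun q hq => by
          have h1 : Commute (Z * q * Z⁻¹) t := ht _ ((mem_normalizer_iff.mp hZN q).mp hq)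
          show q * (Z⁻¹ * t * Z) = Z⁻¹ * t * Z * q
          calc q * (Z⁻¹ * t * Z) = Z⁻¹ * (Z * q * Z⁻¹ * t) * Z := by group
            _ = Z⁻¹ * t * Z * q := by rw [h1.eq]; group
        have e4 : Z⁻¹ * r * Z = r * t * (Z⁻¹ * t * Z)⁻¹ := by rw [← e3, mul_inv_cancel_right]
        rw [e4]
        exact (Commute.refl r).mul_right hrt |>.mul_right (hZt r hr).inv_right
      rcases hR.comm_four hrfour hr' hcomm' with h | h
      · refine (no_fixed_four hJ hK hzw hwJ hrfour ?_).elim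
        show r * Z = Z * r
        conv_rhs => rw [← h]
        group
      · exact h
    have hu0ne : img (Cz z) u0 ≠ 1 := hu0q.symm ▸ hδa1
    have hv0ne : img (Cz z) v0 ≠ 1 := hv0q.symm ▸ hδb1
    obtain ⟨r1, t1, hr1, ht1, e1, hz1⟩ := hact u0 hu0H hu02 hu0D hu0ne
    obtain ⟨r2, t2, hr2, ht2, e2, hz2⟩ := hact v0 hv0H hv02 hv0D hv0ne
    have huvq : img (Cz z) (u0 * v0) = δa * δb := by rw [img_mul hu0z (hHz hv0H), hu0q, hv0q]
    have hncr : ¬ CR (u0 * v0) := hcon _ (mul_mem hu0H hv0H) (huvq ▸ mul_mem hδaD hδbD)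
      (huvq.symm ▸ hδab.2)
    have e12 : img (Cz w) (u0 * v0) = r1 * r2 * (t1 * t2) := by
      rw [img_mul hu0w (hHw hv0H), e1, e2]
      calc r1 * t1 * (r2 * t2) = r1 * (t1 * r2) * t2 := by group
        _ = r1 * r2 * (t1 * t2) := by rw [← (ht1 r2 hr2.1).eq]; group
    have hnc : ¬ (r1 * r2 = 1 ∨ r1 * r2 = cw) := fun h => hncr fun q hq => by
      rw [e12]
      refine Commute.mul_right ?_ ((ht1 q hq).mul_right (ht2 q hq))
      rcases h with h | h
      · exact h ▸ Commute.one_right q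
      · exact h ▸ hR.c_comm hq
    have hsq : r1 * r2 * (r1 * r2) = cw := by
      have h12 : Commute (r1 * r2) (t1 * t2) :=
        (ht1 _ (mul_mem hr1.1 hr2.1)).mul_right (ht2 _ (mul_mem hr1.1 hr2.1))
      have hh : (r1 * r2) * (r1 * r2) * ((t1 * t2) * (t1 * t2)) = 1 := by
        calc (r1 * r2) * (r1 * r2) * ((t1 * t2) * (t1 * t2))
            = (r1 * r2) * ((r1 * r2) * (t1 * t2)) * (t1 * t2) := by group
          _ = (r1 * r2) * ((t1 * t2) * (r1 * r2)) * (t1 * t2) := by rw [h12.eq]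
          _ = (r1 * r2 * (t1 * t2)) * (r1 * r2 * (t1 * t2)) := by group
          _ = 1 := by
            rw [← e12, ← img_mul (hHw (mul_mem hu0H hv0H)) (hHw (mul_mem hu0H hv0H)), huv2, img_one]
      refine (hR.cen _ (mul_mem (mul_mem hr1.1 hr2.1) (mul_mem hr1.1 hr2.1)) fun q hq => ?_).resolve_left
        fun h => hnc (hR.uniq _ (mul_mem hr1.1 hr2.1) h)
      rw [eq_inv_of_mul_eq_one_left hh]
      exact (((ht1 q hq).mul_right (ht2 q hq)).mul_right ((ht1 q hq).mul_right (ht2 q hq))).inv_right.eq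
    refine no_fixed_four hJ hK hzw hwJ (q := r1 * r2) ⟨mul_mem hr1.1 hr2.1, hsq⟩ ?_
    have h : Z⁻¹ * (r1 * r2) * Z = r1 * r2 := by
      calc Z⁻¹ * (r1 * r2) * Z = (Z⁻¹ * r1 * Z) * (Z⁻¹ * r2 * Z) := by group
        _ = r1 * (cw * r2) * cw := by rw [hz1, hz2]; group
        _ = r1 * r2 * (cw * cw) := by rw [← (hR.c_comm hr2.1).eq]; group
        _ = r1 * r2 := by rw [hR.cc, mul_one]
    show r1 * r2 * Z = Z * (r1 * r2)
    conv_rhs => rw [← h]
    group
  -- the whole of `C` centralizes `K`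
  let NC : Subgroup (OQ H) :=
    { carrier := {q | q ∈ C ∧ ∃ x ∈ H, img H x = q ∧ CR x}
      one_mem' := ⟨one_mem _, 1, one_mem _, img_one, fun q _ => by rw [img_one]; exact Commute.one_right q⟩
      mul_mem' := by
        rintro _ _ ⟨h1, x1, hx1, rfl, c1⟩ ⟨h2, x2, hx2, rfl, c2⟩
        exact ⟨mul_mem h1 h2, x1 * x2, mul_mem hx1 hx2, img_mul hx1 hx2, fun q hq => by
          rw [img_mul (hHw hx1) (hHw hx2)]; exact (c1 q hq).mul_right (c2 q hq)⟩
      inv_mem' := by
        rintro _ ⟨h1, x1, hx1, rfl, c1⟩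
        exact ⟨inv_mem h1, x1⁻¹, inv_mem hx1, img_inv hx1, fun q hq => by
          rw [img_inv (hHw hx1)]; exact (c1 q hq).inv_right⟩ }
  have hNn : C ≤ normalizer (NC : Set (OQ H)) := by
    refine component_le_of_two hC fun x hx n hn hxC => ?_
    have hxN : img (Cz w) x ∈ normalizer (R : Set _) :=
      layer_le_normalizer_component hR.comp (hlayer x hx n hn hxC)
    have key : ∀ e ∈ H, img H e ∈ C → img (Cz w) e ∈ normalizer (R : Set _) → ∀ q ∈ NC,
        img H e * q * (img H e)⁻¹ ∈ NC := by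
      rintro e he heC heN _ ⟨hqC, v, hv, rfl, hvc⟩
      refine ⟨mul_mem (mul_mem heC hqC) (inv_mem heC), e * v * e⁻¹,
        mul_mem (mul_mem he hv) (inv_mem he),
        by rw [img_mul (mul_mem he hv) (inv_mem he), img_mul he hv, img_inv he], fun q hq => ?_⟩
      rw [img_mul (mul_mem (hHw he) (hHw hv)) (inv_mem (hHw he)), img_mul (hHw he) (hHw hv),
        img_inv (hHw he)]
      set E := img (Cz w) e
      have h1 : Commute (E⁻¹ * q * E) (img (Cz w) v) := hvc _ (by
        have := (mem_normalizer_iff.mp (inv_mem heN) q).mp hq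
        rwa [inv_inv] at this)
      show q * (E * img (Cz w) v * E⁻¹) = E * img (Cz w) v * E⁻¹ * q
      calc q * (E * img (Cz w) v * E⁻¹) = E * (E⁻¹ * q * E * img (Cz w) v) * E⁻¹ := by group
        _ = _ := by rw [h1.eq]; group
    rw [mem_normalizer_iff]
    intro q
    refine ⟨key x hx hxC hxN q, fun hq => ?_⟩
    have := key x⁻¹ (inv_mem hx) (by rw [img_inv hx]; exact inv_mem hxC)
      (by rw [img_inv (hHw hx)]; exact inv_mem hxN) _ hq
    rw [img_inv hx] at this
    simpa [mul_assoc] using this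
  have hCN : C ≤ NC := by
    obtain e | e := component_eq_or_commutator_of_normalized hC (fun q hq => (show q ∈ C ∧ _ from hq).1) hNn
    · exact e.ge
    · exfalso
      refine hn0ne (hinj n0 hn0H hn0D (hCcen _ (hin _ hn0H hn0D) fun p hp => ?_))
      exact (commute_of_commutator_eq_bot e hp
        (show img H n0 ∈ NC from ⟨hin _ hn0H hn0D, n0, hn0H, rfl, hn0CR⟩))
  -- an element `y` of order four of `K` with `z^y = z w`
  have hZN : Z ∈ normalizer (R : Set _) := Intr.img_mem_normalizer hzw hzK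
  have hZZ : Z * Z = 1 := by rw [hZ, ← img_mul hzw hzw, hzz, img_one]
  have hZi : Z⁻¹ = Z := inv_eq_of_mul_eq_one_right hZZ
  obtain ⟨r, hr, hrmod⟩ := hR.exists_fixed_mod hZN (n := 1) (by rw [pow_one, pow_two, hZZ])
  have hrz : Z⁻¹ * r * Z = r * cw := hrmod.resolve_left fun h => no_fixed_four hJ hK hzw hwJ hr (by
    show r * Z = Z * r
    conv_rhs => rw [← h]
    group)
  have hZr : Z * r * (Z * r) = 1 := by
    calc Z * r * (Z * r) = (Z * r * Z) * r := by group
      _ = (Z⁻¹ * r * Z) * r := by rw [hZi]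
      _ = r * (r * cw) := by rw [hrz, mul_assoc, ← (hR.c_comm hr.1).eq]
      _ = 1 := by rw [← mul_assoc, hr.2, hR.cc]
  obtain ⟨t0, ht0, ht0q⟩ := exists_img_eq (A := Cz w) (Z * r)
  obtain ⟨k0, hk0, hk0q⟩ := exists_two_lift (n := 1) (by rw [pow_one, pow_two]; exact hZr) ht0 ht0q
  rw [pow_one, pow_two] at hk0
  set t1 := t0 ^ k0
  have ht1 : t1 ∈ Cz w := pow_mem ht0 k0
  have ht1i : t1⁻¹ = t1 := inv_eq_of_mul_eq_one_right hk0
  set y1 := z * t1 with hy1
  have hy1w : y1 ∈ Cz w := mul_mem hzw ht1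
  have hy1q : img (Cz w) y1 = r := by
    rw [hy1, img_mul hzw ht1, hk0q, ← mul_assoc, ← hZ, hZZ, one_mul]
  have hinv1 : z⁻¹ * y1 * z = y1⁻¹ := by
    rw [hy1, inv_mul_cancel_left, mul_inv_rev, ht1i, hzi]
  obtain ⟨ky, hky, hkyq⟩ := exists_two_lift (n := 2) (pow_four_eq_one hr.2 hR.cc) hy1w hy1q
  set y := y1 ^ ky with hy
  have hyw : y ∈ Cz w := pow_mem hy1w ky
  have hyK : y ∈ K := hK.mem_of_two hyw hky (hkyq.symm ▸ hr.1)
  have hyy : y * y = w := by
    refine (hK.uniq _ (mul_mem hyK hyK) ?_).resolve_left fun e => hK.img_z_ne ?_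
    · exact sq_sq_eq_one hky
    · show cw = 1
      rw [← hr.2, ← hkyq, ← img_mul hyw hyw, e, img_one]
  have hyinv : z * y * z = y⁻¹ := by
    have := conj_pow (i := ky) (a := z⁻¹) (b := y1)
    rw [inv_inv, hinv1, inv_pow, ← hy] at this
    rw [this, hzi]
  have hzy1 : y⁻¹ * z * y = z * w := by
    calc y⁻¹ * z * y = (z * y * z) * z * y := by rw [hyinv]
      _ = z * y * (z * z) * y := by group
      _ = z * w := by rw [hzz, mul_one, mul_assoc, hyy]
  have hzy2 : y * z * y⁻¹ = z * w := by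
    calc y * z * y⁻¹ = y * z * (z * y * z) := by rw [hyinv]
      _ = y * (z * z) * y * z := by group
      _ = z * w := by rw [hzz, mul_one, hyy, hwzc]
  have hwy : y⁻¹ * w * y = w := mem_Cz_iff_conj.mp hyw
  have hwy' : y * w * y⁻¹ = w := by rw [mem_Cz.mp hyw, mul_inv_cancel_right]
  have hzwH : ∀ x ∈ H, x ∈ Cz (z * w) := fun x hx => mem_Cz.mpr (by
    rw [← mul_assoc, mem_Cz.mp hx.1, mul_assoc, mem_Cz.mp hx.2, ← mul_assoc])
  have hzmem : ∀ x, x ∈ Cz (z * w) → x ∈ Cz w → x ∈ Cz z := fun x h1 h2 => by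
    have h3 : Commute x (z * w * w⁻¹) :=
      (show Commute x (z * w) from mem_Cz.mp h1).mul_right (show Commute x w from mem_Cz.mp h2).inv_right
    rw [mul_inv_cancel_right] at h3
    exact mem_Cz.mpr h3.eq
  have hyH : ∀ x, y⁻¹ * x * y ∈ H ↔ x ∈ H := by
    intro x
    constructor
    · intro h
      have hx : x = y * (y⁻¹ * x * y) * y⁻¹ := by group
      have h2 : x ∈ Cz w := hx ▸ mul_mem (mul_mem hyw h.2) (inv_mem hyw)
      refine ⟨hzmem x ?_ h2, h2⟩
      rw [hx, ← hzy2]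
      have := (conj_mem_Cz_iff y⁻¹ z (y⁻¹ * x * y)).mpr h.1
      rwa [inv_inv] at this
    · intro h
      have h2 : y⁻¹ * x * y ∈ Cz w := mul_mem (mul_mem (inv_mem hyw) h.2) hyw
      refine ⟨hzmem _ ?_ h2, h2⟩
      rw [← hzy1]
      exact (conj_mem_Cz_iff y z x).mpr h.1
  -- an involution `u` over `δa` commuting with `y`
  obtain ⟨-, n, hnH, hne, hnCR⟩ := hCN (hin u0 hu0H hu0D)
  have hfixy : img H (y⁻¹ * u0 * y) = img H u0 := by
    have hny : y⁻¹ * n * y ∈ H := (hyH n).mpr hnH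
    have h1 : img H (y⁻¹ * n * y) = img H n := by
      refine (img_eq_iff hny hnH).mpr (core_inf_le hHw ?_ (mul_mem (inv_mem hny) hnH))
      rw [← img_eq_iff (hHw hny) (hHw hnH), img_conj (hHw hnH) hyw, hkyq, mul_assoc,
        ← (hnCR r hr.1).eq, inv_mul_cancel_left]
    rw [img_conj_congr y hyH hu0H hnH hne.symm, h1, hne]
  have hy4 : y ^ 2 ^ 2 = 1 := hky
  obtain ⟨u, huH, huu, hue, huy⟩ := exists_fixed_involution (A := H) hy4 hyH hu0H hu02 hfixy
  have huq : img (Cz z) u = δa := by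
    rw [← hu0q]
    exact hsame u huH u0 hu0H 1 (by rw [pow_one, pow_two, huu]) hu0D hue
  have huR : ∀ q ∈ R, Commute q (img (Cz w) u) := by
    have hk : n⁻¹ * u ∈ core H := (img_eq_iff hnH huH).mp (hne.trans hue.symm)
    obtain ⟨m, hm, hkm⟩ := exists_odd_pow_of_mem_core hk
    intro q hq
    set U := img (Cz w) u
    have hU2 : U * U = 1 := by rw [← img_mul (hHw huH) (hHw huH), huu, img_one]
    set N' := img (Cz w) n
    set M' := img (Cz w) (n⁻¹ * u)
    have hUM : U = N' * M' := by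
      rw [← img_mul (hHw hnH) (hHw (core_le hk)), mul_inv_cancel_left]
    -- modulo the centralizer of `R` this is an involution equal to an element of odd order
    set NR := normalizer (R : Set (OQ (Cz w)))
    let CC : Subgroup ↥NR := (centralizer (R : Set (OQ (Cz w)))).subgroupOf NR
    haveI : CC.Normal := by
      refine ⟨fun e he v => ?_⟩
      rw [mem_subgroupOf, mem_centralizer_iff] at he ⊢
      intro x hx
      have hx' : (v : OQ (Cz w))⁻¹ * x * v ∈ R := by
        have := (mem_normalizer_iff.mp (inv_mem v.2) x).mp hx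
        rwa [inv_inv] at this
      show x * ((v : OQ (Cz w)) * e * (v : OQ (Cz w))⁻¹) = _ * x
      calc x * ((v : OQ (Cz w)) * e * (v : OQ (Cz w))⁻¹)
          = v * ((v : OQ (Cz w))⁻¹ * x * v * e) * (v : OQ (Cz w))⁻¹ := by group
        _ = (v : OQ (Cz w)) * e * (v : OQ (Cz w))⁻¹ * x := by rw [he _ hx']; group
    have hUN : U ∈ NR := layer_le_normalizer_component hR.comp
      (hlayer u huH 1 (by rw [pow_one, pow_two, huu]) (by rw [hue]; exact hin u0 hu0H hu0D))
    have hN'c : N' ∈ centralizer (R : Set (OQ (Cz w))) := mem_centralizer_iff.mpr fun x hx => (hnCR x hx).eq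
    have hM'N : M' ∈ NR := by
      have : M' = N'⁻¹ * U := by rw [hUM, inv_mul_cancel_left]
      rw [this]
      exact mul_mem (inv_mem (centralizer_le_normalizer _ hN'c)) hUN
    let qU : ↥NR ⧸ CC := QuotientGroup.mk' CC ⟨U, hUN⟩
    have hqM : qU = QuotientGroup.mk' CC ⟨M', hM'N⟩ := by
      refine (QuotientGroup.mk'_eq_mk' CC).mpr ⟨⟨U, hUN⟩⁻¹ * ⟨M', hM'N⟩, ?_, by group⟩
      rw [mem_subgroupOf]
      show U⁻¹ * M' ∈ centralizer (R : Set (OQ (Cz w)))
      have e : U⁻¹ * M' = M'⁻¹ * N'⁻¹ * (M'⁻¹)⁻¹ := by rw [hUM]; group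
      rw [e]
      exact (mem_normalizer_iff.mp
        (normalizer_le_normalizer_centralizer'' (inv_mem hM'N)) _).mp (inv_mem hN'c)
    have h1 : qU = 1 := by
      refine eq_one_of_odd_pow (n := 1) ?_ hm ?_
      · show (QuotientGroup.mk' CC ⟨U, hUN⟩) ^ 2 ^ 1 = 1
        rw [pow_one, pow_two, ← map_mul]
        exact (congrArg _ (Subtype.ext hU2 : (⟨U, hUN⟩ * ⟨U, hUN⟩ : ↥NR) = 1)).trans (map_one _)
      · rw [hqM, ← map_pow]
        have : (⟨M', hM'N⟩ : ↥NR) ^ m = 1 :=
          Subtype.ext (by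
            show M' ^ m = 1
            rw [← img_pow (hHw (core_le hk)), hkm, img_one])
        rw [this, map_one]
    exact mem_centralizer_iff.mp (mem_subgroupOf.mp ((QuotientGroup.eq_one_iff _).mp h1)) q hq
  -- the conjugating element
  obtain ⟨a1, ha1J, -, ha1q⟩ := hJ.exists_four_lift ha
  have ha1z : a1 ∈ Cz z := hJ.le ha1J
  have hwu : w * u = u * w := (mem_Cz.mp huH.2).symm
  have hzu : z * u = u * z := (mem_Cz.mp huH.1).symm
  set i := w * u * z with hi
  have hiz : i ∈ Cz z := mul_mem (mul_mem hwz huH.1) (self_mem_Cz z)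
  have hii : i * i = 1 := by
    calc i * i = w * u * (z * (w * u)) * z := by rw [hi]; group
      _ = w * u * (w * u) * (z * z) := by rw [← mem_Cz.mp (mul_mem hwz huH.1)]; group
      _ = w * (u * w) * u * (z * z) := by group
      _ = (w * w) * (u * u) * (z * z) := by rw [← hwu]; group
      _ = 1 := by rw [hww, huu, hzz, one_mul, one_mul]
  set A' := W⁻¹ * a * W with hA'
  have hA'4 : A' * A' = c := by
    calc A' * A' = W⁻¹ * (a * a) * W := by rw [hA']; group
      _ = c := by rw [ha.2, hcW]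
  have haA' : Commute a A' := hcomm a ha.1 a ha.1
  have hcA' : Commute c A' := by
    show c * A' = A' * c
    rw [← hA'4, mul_assoc]
  have hA'inv : A'⁻¹ = A' * c := inv_eq_of_mul_eq_one_right (by rw [← mul_assoc, hA'4, hP.cc])
  have hiq : img (Cz z) i = W * δa * c := by
    rw [hi, img_mul (mul_mem hwz huH.1) (self_mem_Cz z), img_mul hwz huH.1, huq]
  have hconj1 : a⁻¹ * W * a = W * δa * c := by
    calc a⁻¹ * W * a = W * ((W⁻¹ * a * W)⁻¹ * a) := by group
      _ = W * (A' * c * a) := by rw [← hA', hA'inv]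
      _ = W * (a * (A' * c)) := by
        rw [← (haA'.mul_right (hP.c_comm ha.1)).eq]
      _ = W * δa * c := by rw [hδa, hA']; group
  obtain ⟨o, ho, hoe⟩ := exists_core_conj (mul_mem (mul_mem (inv_mem ha1z) hwz) ha1z) hiz
    (by
      calc a1⁻¹ * w * a1 * (a1⁻¹ * w * a1) = a1⁻¹ * (w * w) * a1 := by group
        _ = 1 := by rw [hww]; group) hii
    (by rw [img_conj hwz ha1z, ha1q, hiq]; exact hconj1)
  set at' := a1 * o with hat
  have hatz : at' ∈ Cz z := mul_mem ha1z (core_le ho)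
  have hatw : at'⁻¹ * w * at' = i := by rw [← hoe, hat]; group
  have hatzz : at'⁻¹ * z * at' = z := mem_Cz_iff_conj.mp hatz
  have hatq : img (Cz z) at' = a := by
    rw [hat, img_mul ha1z (core_le ho), ha1q, img_eq_one_of_mem_core ho, mul_one]
  set g := y⁻¹ * at' * y with hg
  obtain ⟨t, ht⟩ : ∃ t, t = w * u := ⟨_, rfl⟩
  have hgz : g⁻¹ * z * g = t := by
    calc g⁻¹ * z * g = y⁻¹ * (at'⁻¹ * (y * z * y⁻¹) * at') * y := by rw [hg]; group
      _ = y⁻¹ * ((at'⁻¹ * z * at') * (at'⁻¹ * w * at')) * y := by rw [hzy2]; group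
      _ = y⁻¹ * (z * (w * u * z)) * y := by rw [hatzz, hatw]
      _ = y⁻¹ * ((z * z) * (w * u)) * y := by
          rw [mem_Cz.mp (mul_mem hwz huH.1)]; group
      _ = (y⁻¹ * w * y) * (y⁻¹ * u * y) := by rw [hzz, one_mul]; group
      _ = t := by rw [hwy, huy, ht]
  set q0 := at' * w * at'⁻¹ with hq0
  have hq0w : q0 ∈ Cz w := by
    have h1 : at'⁻¹ * q0 * at' ∈ Cz (at'⁻¹ * w * at') := by
      rw [hatw, show at'⁻¹ * q0 * at' = w by rw [hq0]; group, mem_Cz]
      show w * (w * u * z) = w * u * z * w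
      calc w * (w * u * z) = (w * w) * (u * z) := by group
        _ = w * (w * u) * z := by group
        _ = w * (u * w) * z := by rw [hwu]
        _ = w * u * (w * z) := by group
        _ = w * u * z * w := by rw [hwzc]; group
    exact (conj_mem_Cz_iff at' w q0).mp h1
  have hq0z : q0 ∈ Cz z := mul_mem (mul_mem hatz hwz) (inv_mem hatz)
  have hq0q : img (Cz z) q0 = W * δa * c := by
    rw [hq0, img_mul (mul_mem hatz hwz) (inv_mem hatz), img_mul hatz hwz, img_inv hatz, hatq]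
    calc a * W * a⁻¹ = W * ((W⁻¹ * a * W) * a⁻¹) := by group
      _ = W * (A' * (a * c)) := by rw [← hA', hP.four_inv ha]
      _ = W * δa * c := by rw [hδa, ← mul_assoc A', ← haA'.eq, hA']; group
  set s := g * w * g⁻¹ with hs
  have hsq : s = y⁻¹ * q0 * y := by
    rw [hs, hg, hq0]
    calc y⁻¹ * at' * y * w * (y⁻¹ * at' * y)⁻¹ = y⁻¹ * at' * (y * w * y⁻¹) * at'⁻¹ * y := by group
      _ = _ := by rw [hwy']; group
  have hq0H : q0 ∈ H := ⟨hq0z, hq0w⟩
  have hsH : s ∈ H := hsq ▸ (hyH q0).mpr hq0H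
  have hiH : i ∈ H := ⟨hiz, mul_mem (mul_mem (self_mem_Cz w) huH.2) hzw⟩
  have hzH : z ∈ H := ⟨self_mem_Cz z, hzw⟩
  have hψs : img H s = img H (u * z) := by
    rw [hsq, img_conj_congr y hyH hq0H hiH ((img_eq_iff hq0H hiH).mpr (core_inf_le hHz
      ((img_eq_iff hq0z hiz).mp (hq0q.trans hiq.symm)) (mul_mem (inv_mem hq0H) hiH)))]
    congr 1
    calc y⁻¹ * i * y = (y⁻¹ * w * y) * (y⁻¹ * u * y) * (y⁻¹ * z * y) := by rw [hi]; group
      _ = w * u * (z * w) := by rw [hwy, huy, hzy1]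
      _ = (w * u) * w * z := by rw [← hwzc]; group
      _ = u * (w * w) * z := by rw [hwu]; group
      _ = u * z := by rw [hww, mul_one]
  have hss : s * s = 1 := by
    calc s * s = g * (w * w) * g⁻¹ := by rw [hs]; group
      _ = 1 := by rw [hww]; group
  have hsz : Commute s z := mem_Cz.mp hsH.1
  have hszq : img (Cz z) (s * z) = δa := by
    rw [← huq]
    refine hsame (s * z) (mul_mem hsH hzH) u huH 1 ?_ (huq.symm ▸ hδaD) ?_
    · rw [pow_one, pow_two]
      calc s * z * (s * z) = s * (z * s) * z := by group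
        _ = (s * s) * (z * z) := by rw [← hsz.eq]; group
        _ = 1 := by rw [hss, hzz, one_mul]
    · rw [img_mul hsH hzH, hψs, img_mul huH hzH, mul_assoc, ← img_mul hzH hzH, hzz, img_one, mul_one]
  have hw1z : w⁻¹ * a1 * w ∈ Cz z := mul_mem (mul_mem (inv_mem hwz) ha1z) hwz
  have hsimg : img (Cz z) s = img (Cz z) (a1 * ((w⁻¹ * a1 * w) * z)) := by
    rw [img_mul ha1z (mul_mem hw1z (self_mem_Cz z)), img_mul hw1z (self_mem_Cz z),
      img_conj ha1z hwz, ha1q]
    calc img (Cz z) s = img (Cz z) (s * z * z) := by rw [mul_assoc, hzz, mul_one]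
      _ = δa * c := by rw [img_mul (mul_mem hsH.1 (self_mem_Cz z)) (self_mem_Cz z), hszq]
      _ = _ := mul_assoc _ _ _
  have hAB : ∀ x, g⁻¹ * x * g ∈ Cz t ↔ x ∈ Cz z := fun x => by
    rw [← hgz]; exact conj_mem_Cz_iff g z x
  have htr := img_conj_congr g hAB hsH.1
    (mul_mem ha1z (mul_mem hw1z (self_mem_Cz z))) hsimg
  set J' := cjS g J with hJ'
  set J'' := cjS g (cjS w J) with hJ''
  have hJ'i : Intr J' t := hgz ▸ hJ.conj g
  have hJ''i : Intr J'' t := hgz ▸ (hJ.conj_same hwz).conj g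
  have hJne : J' ≠ J'' := fun e => hJw (by
    have := congrArg (cjS g⁻¹) e
    rw [hJ', hJ'', ← cjS_mul, ← cjS_mul (g := g) (h := g⁻¹), mul_inv_cancel, cjS_one, cjS_one] at this
    exact this)
  have hwt : w ∈ Cz t := by
    rw [mem_Cz, ht]
    rw [mul_assoc, ← hwu]
  have hA1 : g⁻¹ * a1 * g ∈ Cz t := (hAB a1).mpr ha1z
  have hA2 : g⁻¹ * (w⁻¹ * a1 * w) * g ∈ Cz t := (hAB _).mpr hw1z
  have hA3 : g⁻¹ * z * g ∈ Cz t := (hAB _).mpr (self_mem_Cz z)
  set p := img (Cz t) (g⁻¹ * a1 * g) with hp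
  set p' := img (Cz t) (g⁻¹ * (w⁻¹ * a1 * w) * g) * img (Cz t) t with hp'
  have hpfour : Four (Im (Cz t) J') (img (Cz t) t) p := by
    refine ⟨img_mem_Im (conj_mem_cjS ha1J) hA1, ?_⟩
    rw [hp, ← img_mul hA1 hA1]
    have h1 := img_conj_congr g hAB (mul_mem ha1z ha1z) (self_mem_Cz z)
      (by rw [img_mul ha1z ha1z, ha1q]; exact ha.2)
    rw [hgz] at h1
    rw [← h1]
    congr 1
    group
  have hWt : img (Cz t) w = p * p' := by
    have e1 : g⁻¹ * s * g = w := by rw [hs]; group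
    rw [e1] at htr
    rw [htr, hp, hp', ← hgz]
    have := hA3
    rw [← hgz] at hA1 hA2
    rw [← img_mul hA2 (by rw [hgz] at this ⊢; exact this),
      ← img_mul hA1 (mul_mem hA2 (by rw [hgz] at this ⊢; exact this))]
    congr 1
    group
  have htR : ∀ q ∈ Im (Cz w) K, Commute q (img (Cz w) t) := fun q hq => by
    rw [ht, img_mul (self_mem_Cz w) huH.2]
    exact (hR.c_comm hq).mul_right (huR q hq)
  refine centralizing_false hJ'i hK ?_ hwt htR hpfour (fun x hx => ?_) hWt
  · rw [hcard]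
    exact card_Im_conj hJ g hgz
  · refine (hJ'i.comm_of_ne hJ''i hJne hx ?_).mul_right ?_
    · exact img_mem_Im (conj_mem_cjS (conj_mem_cjS ha1J)) hA2
    · exact hJ'i.uc.c_comm hx
where
  normalizer_le_normalizer_centralizer'' {X : Type _} [Group X] {R : Subgroup X} {n : X}
      (hn : n ∈ normalizer (R : Set X)) : n ∈ normalizer (centralizer (R : Set X) : Set X) := by
    have key : ∀ n ∈ normalizer (R : Set X), ∀ e ∈ centralizer (R : Set X),
        n * e * n⁻¹ ∈ centralizer (R : Set X) := by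
      intro n hn e he
      rw [mem_centralizer_iff]
      intro x hx
      have hx' : n⁻¹ * x * n ∈ R := by
        have := (mem_normalizer_iff.mp (inv_mem hn) x).mp hx
        rwa [inv_inv] at this
      calc x * (n * e * n⁻¹) = n * (n⁻¹ * x * n * e) * n⁻¹ := by group
        _ = n * e * n⁻¹ * x := by rw [mem_centralizer_iff.mp he _ hx']; group
    rw [mem_normalizer_iff]
    refine fun e => ⟨key n hn e, fun he => ?_⟩
    have := key n⁻¹ (inv_mem hn) _ he
    simpa [mul_assoc] using this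
  card_Im_conj {G : Type _} [Group G] [Finite G] {J : Subgroup G} {z t : G} (hJ : Intr J z) (g : G)
      (hgz : g⁻¹ * z * g = t) : Nat.card (Im (Cz z) J) = Nat.card (Im (Cz t) (cjS g J)) := by
    have h2 : Intr (cjS g J) t := hgz ▸ hJ.conj g
    rw [hJ.card_Im, h2.card_Im]
    exact Nat.card_congr (QuotientGroup.congr _ _
      (J.equivMapOfInjective _ (MulAut.conj g⁻¹).injective)
      (CfsgLib.PCore.map_pPrimeCore_equiv _)).toEquiv

end CfsgLib.Invol68
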